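import Mathlib
import Cfsg.Agent.Helper9.G42.Dat0
import Cfsg.Agent.Helper9.G42.Dat1
import Cfsg.Agent.Helper9.G42.Dat2
import Cfsg.Agent.Helper9.G42.Dat3
import Cfsg.Agent.Helper9.G42.Dat4
import Cfsg.Agent.Helper9.G42.Dat5
import Cfsg.Agent.Helper9.G42.Dat6
import Cfsg.Agent.Helper9.G42.Dat7
import Cfsg.Agent.Helper9.G42.Dat8
import Cfsg.Agent.Helper9.G42.Dat9
import Cfsg.Agent.Helper9.G42.Dat10
import Cfsg.Agent.Helper9.G42.Dat11
import Cfsg.Agent.Helper9.G42.Dat12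
import Cfsg.Agent.Helper9.G42.Dat13
import Cfsg.Agent.Helper9.G42.Dat14
import Cfsg.Agent.Helper9.G42.Dat15
import Cfsg.Agent.Helper9.G42.Dat16
import Cfsg.Agent.Helper9.G42.Dat17

set_option autoImplicit false

/-!
The list of the classes of subgroups.
-/

namespace Cfsg.Agent.Helper9.G42

/-- the certificates of the classes. -/
def cls : ℕ → Cls
  | 0 => cD0
  | 1 => cD1
  | 2 => cD2
  | 3 => cD3
  | 4 => cD4
  | 5 => cD5
  | 6 => cD6
  | 7 => cD7
  | 8 => cD8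
  | 9 => cD9
  | 10 => cD10
  | 11 => cD11
  | 12 => cD12
  | 13 => cD13
  | 14 => cD14
  | 15 => cD15
  | 16 => cD16
  | 17 => cD17
  | 18 => cD18
  | 19 => cD19
  | 20 => cD20
  | 21 => cD21
  | 22 => cD22
  | 23 => cD23
  | 24 => cD24
  | 25 => cD25
  | 26 => cD26
  | 27 => cD27
  | 28 => cD28
  | 29 => cD29
  | 30 => cD30
  | 31 => cD31
  | 32 => cD32
  | 33 => cD33
  | 34 => cD34
  | 35 => cD35
  | 36 => cD36
  | 37 => cD37
  | 38 => cD38
  | 39 => cD39
  | 40 => cD40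
  | 41 => cD41
  | 42 => cD42
  | 43 => cD43
  | 44 => cD44
  | 45 => cD45
  | 46 => cD46
  | 47 => cD47
  | 48 => cD48
  | 49 => cD49
  | 50 => cD50
  | 51 => cD51
  | 52 => cD52
  | 53 => cD53
  | 54 => cD54
  | 55 => cD55
  | 56 => cD56
  | 57 => cD57
  | 58 => cD58
  | 59 => cD59
  | 60 => cD60
  | 61 => cD61
  | 62 => cD62
  | 63 => cD63
  | 64 => cD64
  | 65 => cD65
  | 66 => cD66
  | 67 => cD67
  | 68 => cD68
  | 69 => cD69
  | 70 => cD70
  | 71 => cD71
  | 72 => cD72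
  | 73 => cD73
  | 74 => cD74
  | 75 => cD75
  | 76 => cD76
  | 77 => cD77
  | 78 => cD78
  | 79 => cD79
  | 80 => cD80
  | 81 => cD81
  | 82 => cD82
  | 83 => cD83
  | 84 => cD84
  | 85 => cD85
  | 86 => cD86
  | 87 => cD87
  | 88 => cD88
  | 89 => cD89
  | 90 => cD90
  | 91 => cD91
  | 92 => cD92
  | 93 => cD93
  | 94 => cD94
  | 95 => cD95
  | 96 => cD96
  | 97 => cD97
  | 98 => cD98
  | 99 => cD99
  | 100 => cD100
  | 101 => cD101
  | 102 => cD102
  | 103 => cD103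
  | 104 => cD104
  | 105 => cD105
  | 106 => cD106
  | 107 => cD107
  | 108 => cD108
  | 109 => cD109
  | 110 => cD110
  | 111 => cD111
  | 112 => cD112
  | 113 => cD113
  | 114 => cD114
  | 115 => cD115
  | 116 => cD116
  | 117 => cD117
  | 118 => cD118
  | 119 => cD119
  | 120 => cD120
  | 121 => cD121
  | 122 => cD122
  | 123 => cD123
  | 124 => cD124
  | 125 => cD125
  | 126 => cD126
  | 127 => cD127
  | 128 => cD128
  | 129 => cD129
  | 130 => cD130
  | 131 => cD131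
  | 132 => cD132
  | 133 => cD133
  | 134 => cD134
  | 135 => cD135
  | 136 => cD136
  | _ => cD0

end Cfsg.Agent.Helper9.G42
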