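import Mathlib
import Cfsg.Agent.Helper9.J3.Fast
import Cfsg.Agent.Helper9.G42.Tab

set_option autoImplicit false

/-!
The general linear group of degree four over the field with two elements, with its elements
numbered from 0 to 20159 and the product computed from tables, as the kernel computes it.
-/
namespace Cfsg.Agent.Helper9.G42
open Cfsg.Agent.Helper9.J3

/-- a bit of a code. -/
def bitA (a p : ℕ) : ℕ := Nat.land (Nat.shiftRight a p) 1
/-- a row of the product of two codes. -/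
def rowM (a p b0 b1 b2 b3 : ℕ) : ℕ :=
  Nat.xor (Nat.xor (Nat.xor (Nat.mul (bitA a p) b0) (Nat.mul (bitA a (Nat.succ p)) b1))
    (Nat.mul (bitA a (Nat.succ (Nat.succ p))) b2)) (Nat.mul (bitA a (Nat.succ (Nat.succ (Nat.succ p)))) b3)
/-- the product of two codes, from the rows of the second. -/
def mulCore (a b0 b1 b2 b3 : ℕ) : ℕ :=
  Nat.lor (Nat.lor (Nat.lor (rowM a 0 b0 b1 b2 b3) (Nat.shiftLeft (rowM a 4 b0 b1 b2 b3) 4))
    (Nat.shiftLeft (rowM a 8 b0 b1 b2 b3) 8)) (Nat.shiftLeft (rowM a 12 b0 b1 b2 b3) 12)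
/-- the product of two codes of matrices. -/
def mulC (a b : ℕ) : ℕ :=
  sapp (fun a => sapp (fun b =>
    sapp (fun b0 => sapp (fun b1 => sapp (fun b2 => sapp (fun b3 => mulCore a b0 b1 b2 b3)
      (Nat.land (Nat.shiftRight b 12) 15)) (Nat.land (Nat.shiftRight b 8) 15)) (Nat.land (Nat.shiftRight b 4) 15))
      (Nat.land b 15)) b) a

theorem mulC_eq (a b : ℕ) : mulC a b = mulCore a (b &&& 15) ((b >>> 4) &&& 15) ((b >>> 8) &&& 15) ((b >>> 12) &&& 15) := by
  simp only [mulC, sapp_eq]; rfl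

theorem bitA_eq (a p : ℕ) : bitA a p = if a.testBit p then 1 else 0 := by
  show (a >>> p) &&& 1 = _
  rw [Nat.testBit, Nat.and_comm]
  by_cases h : 1 &&& a >>> p = 0
  · simp [h]
  · have : 1 &&& a >>> p = 1 := by
      have := Nat.and_le_left (n := 1) (m := a >>> p)
      omega
    simp [this]

theorem testBit_rowM (a p b0 b1 b2 b3 t : ℕ) :
    (rowM a p b0 b1 b2 b3).testBit t = (xor (xor (xor (a.testBit p && b0.testBit t) (a.testBit (p+1) && b1.testBit t))
      (a.testBit (p+2) && b2.testBit t)) (a.testBit (p+3) && b3.testBit t)) := by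
  show ((((bitA a p * b0) ^^^ (bitA a (p+1) * b1)) ^^^ (bitA a (p+2) * b2)) ^^^ (bitA a (p+3) * b3)).testBit t = _
  simp only [Nat.testBit_xor, bitA_eq]
  congr 1
  · congr 1
    · congr 1
      · split <;> simp [*]
      · split <;> simp [*]
    · split <;> simp [*]
  · split <;> simp [*]

theorem rowM_lt (a p b0 b1 b2 b3 : ℕ) (h0 : b0 < 16) (h1 : b1 < 16) (h2 : b2 < 16) (h3 : b3 < 16) :
    rowM a p b0 b1 b2 b3 < 16 := by
  show ((((bitA a p * b0) ^^^ (bitA a (p+1) * b1)) ^^^ (bitA a (p+2) * b2)) ^^^ (bitA a (p+3) * b3)) < 2 ^ 4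
  have hb : ∀ q b, b < 16 → bitA a q * b < 2 ^ 4 := by
    intro q b hb
    rw [bitA_eq]; split <;> omega
  exact Nat.xor_lt_two_pow (Nat.xor_lt_two_pow (Nat.xor_lt_two_pow (hb _ _ h0) (hb _ _ h1)) (hb _ _ h2)) (hb _ _ h3)

theorem testBit_of_lt16 {r : ℕ} (h : r < 16) {p : ℕ} (hp : 4 ≤ p) : r.testBit p = false := by
  apply Nat.testBit_lt_two_pow
  calc r < 2 ^ 4 := h
    _ ≤ 2 ^ p := Nat.pow_le_pow_right (by norm_num) hp

theorem testBit_asm0 (r0 r1 r2 r3 k : ℕ) (hk : k < 4) :
    (r0 ||| r1 <<< 4 ||| r2 <<< 8 ||| r3 <<< 12).testBit k = r0.testBit k := by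
  simp only [Nat.testBit_or, Nat.testBit_shiftLeft]
  have e1 : decide (4 ≤ k) = false := by simp; omega
  have e2 : decide (8 ≤ k) = false := by simp; omega
  have e3 : decide (12 ≤ k) = false := by simp; omega
  rw [e1, e2, e3]; simp

theorem testBit_asm1 (r0 r1 r2 r3 k : ℕ) (h0 : r0 < 16) (hk : k < 4) :
    (r0 ||| r1 <<< 4 ||| r2 <<< 8 ||| r3 <<< 12).testBit (4 + k) = r1.testBit k := by
  simp only [Nat.testBit_or, Nat.testBit_shiftLeft]
  have e0 : r0.testBit (4 + k) = false := testBit_of_lt16 h0 (by omega)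
  have e1 : decide (4 ≤ 4 + k) = true := by simp
  have e2 : decide (8 ≤ 4 + k) = false := by simp; omega
  have e3 : decide (12 ≤ 4 + k) = false := by simp; omega
  have e4 : 4 + k - 4 = k := by omega
  rw [e0, e1, e2, e3, e4]; simp

theorem testBit_asm2 (r0 r1 r2 r3 k : ℕ) (h0 : r0 < 16) (h1 : r1 < 16) (hk : k < 4) :
    (r0 ||| r1 <<< 4 ||| r2 <<< 8 ||| r3 <<< 12).testBit (8 + k) = r2.testBit k := by
  simp only [Nat.testBit_or, Nat.testBit_shiftLeft]
  have e0 : r0.testBit (8 + k) = false := testBit_of_lt16 h0 (by omega)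
  have e0' : r1.testBit (8 + k - 4) = false := testBit_of_lt16 h1 (by omega)
  have e1 : decide (4 ≤ 8 + k) = true := by simp; omega
  have e2 : decide (8 ≤ 8 + k) = true := by simp
  have e3 : decide (12 ≤ 8 + k) = false := by simp; omega
  have e4 : 8 + k - 8 = k := by omega
  rw [e0, e0', e1, e2, e3, e4]; simp

theorem testBit_asm3 (r0 r1 r2 r3 k : ℕ) (h0 : r0 < 16) (h1 : r1 < 16) (h2 : r2 < 16) (hk : k < 4) :
    (r0 ||| r1 <<< 4 ||| r2 <<< 8 ||| r3 <<< 12).testBit (12 + k) = r3.testBit k := by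
  simp only [Nat.testBit_or, Nat.testBit_shiftLeft]
  have e0 : r0.testBit (12 + k) = false := testBit_of_lt16 h0 (by omega)
  have e0' : r1.testBit (12 + k - 4) = false := testBit_of_lt16 h1 (by omega)
  have e0'' : r2.testBit (12 + k - 8) = false := testBit_of_lt16 h2 (by omega)
  have e1 : decide (4 ≤ 12 + k) = true := by simp; omega
  have e2 : decide (8 ≤ 12 + k) = true := by simp; omega
  have e3 : decide (12 ≤ 12 + k) = true := by simp
  have e4 : 12 + k - 12 = k := by omega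
  rw [e0, e0', e0'', e1, e2, e3, e4]; simp

/-- the matrix of a code. -/
def dec (c : ℕ) : Matrix (Fin 4) (Fin 4) (ZMod 2) := fun i j => if c.testBit (4 * i.val + j.val) then 1 else 0

theorem and15_lt (x : ℕ) : x &&& 15 < 16 := Nat.lt_succ_of_le Nat.and_le_right

theorem testBit_and15 (x t : ℕ) (ht : t < 4) : (x &&& 15).testBit t = x.testBit t := by
  rw [Nat.testBit_and]
  have : (15 : ℕ).testBit t = true := by interval_cases t <;> rfl
  rw [this, Bool.and_true]

theorem mulC_lt (a b : ℕ) : mulC a b < 65536 := by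
  rw [mulC_eq]
  show (_ ||| _ <<< 4 ||| _ <<< 8 ||| _ <<< 12) < 2 ^ 16
  have h := fun p => rowM_lt a p _ _ _ _ (and15_lt b) (and15_lt (b >>> 4)) (and15_lt (b >>> 8)) (and15_lt (b >>> 12))
  have hs : ∀ r s, r < 16 → s ≤ 12 → r <<< s < 2 ^ 16 := by
    intro r s hr hs
    rw [Nat.shiftLeft_eq]
    calc r * 2 ^ s < 16 * 2 ^ s := Nat.mul_lt_mul_of_pos_right hr (Nat.two_pow_pos s)
      _ ≤ 16 * 2 ^ 12 := Nat.mul_le_mul_left _ (Nat.pow_le_pow_right (by norm_num) hs)
      _ = 2 ^ 16 := by norm_num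
  have h0 : rowM a 0 (b &&& 15) (b >>> 4 &&& 15) (b >>> 8 &&& 15) (b >>> 12 &&& 15) < 2 ^ 16 :=
    lt_trans (h 0) (by norm_num)
  exact Nat.or_lt_two_pow (Nat.or_lt_two_pow (Nat.or_lt_two_pow h0 (hs _ 4 (h 4) (by norm_num)))
    (hs _ 8 (h 8) (by norm_num))) (hs _ 12 (h 12) (by norm_num))

theorem bool_key (a0 a1 a2 a3 b0 b1 b2 b3 : Bool) :
    (if xor (xor (xor (a0 && b0) (a1 && b1)) (a2 && b2)) (a3 && b3) then (1 : ZMod 2) else 0) =
      (if a0 then 1 else 0) * (if b0 then 1 else 0) + (if a1 then 1 else 0) * (if b1 then 1 else 0) +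
      (if a2 then 1 else 0) * (if b2 then 1 else 0) + (if a3 then 1 else 0) * (if b3 then 1 else 0) := by
  cases a0 <;> cases a1 <;> cases a2 <;> cases a3 <;> cases b0 <;> cases b1 <;> cases b2 <;> cases b3 <;> decide

theorem dec_mulC (a b : ℕ) : dec (mulC a b) = dec a * dec b := by
  ext i k
  rw [Matrix.mul_apply, Fin.sum_univ_four]
  have h := fun p => rowM_lt a p _ _ _ _ (and15_lt b) (and15_lt (b >>> 4)) (and15_lt (b >>> 8)) (and15_lt (b >>> 12))
  have hrow : ∀ p, (rowM a p (b &&& 15) (b >>> 4 &&& 15) (b >>> 8 &&& 15) (b >>> 12 &&& 15)).testBit k.val =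
      xor (xor (xor (a.testBit p && b.testBit k.val) (a.testBit (p+1) && b.testBit (4 + k.val)))
        (a.testBit (p+2) && b.testBit (8 + k.val))) (a.testBit (p+3) && b.testBit (12 + k.val)) := by
    intro p
    rw [testBit_rowM, testBit_and15 _ _ k.isLt, testBit_and15 _ _ k.isLt, testBit_and15 _ _ k.isLt,
      testBit_and15 _ _ k.isLt, Nat.testBit_shiftRight, Nat.testBit_shiftRight, Nat.testBit_shiftRight]
  have hm : mulC a b = (rowM a 0 (b &&& 15) (b >>> 4 &&& 15) (b >>> 8 &&& 15) (b >>> 12 &&& 15)) |||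
      (rowM a 4 (b &&& 15) (b >>> 4 &&& 15) (b >>> 8 &&& 15) (b >>> 12 &&& 15)) <<< 4 |||
      (rowM a 8 (b &&& 15) (b >>> 4 &&& 15) (b >>> 8 &&& 15) (b >>> 12 &&& 15)) <<< 8 |||
      (rowM a 12 (b &&& 15) (b >>> 4 &&& 15) (b >>> 8 &&& 15) (b >>> 12 &&& 15)) <<< 12 := mulC_eq a b
  fin_cases i
  · show (if (mulC a b).testBit (0 + k.val) then (1 : ZMod 2) else 0) =
      (if a.testBit 0 then 1 else 0) * (if b.testBit (0 + k.val) then 1 else 0) +
      (if a.testBit 1 then 1 else 0) * (if b.testBit (4 + k.val) then 1 else 0) +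
      (if a.testBit 2 then 1 else 0) * (if b.testBit (8 + k.val) then 1 else 0) +
      (if a.testBit 3 then 1 else 0) * (if b.testBit (12 + k.val) then 1 else 0)
    rw [Nat.zero_add, hm, testBit_asm0 _ _ _ _ _ k.isLt, hrow]
    exact bool_key _ _ _ _ _ _ _ _
  · show (if (mulC a b).testBit (4 + k.val) then (1 : ZMod 2) else 0) =
      (if a.testBit 4 then 1 else 0) * (if b.testBit (0 + k.val) then 1 else 0) +
      (if a.testBit 5 then 1 else 0) * (if b.testBit (4 + k.val) then 1 else 0) +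
      (if a.testBit 6 then 1 else 0) * (if b.testBit (8 + k.val) then 1 else 0) +
      (if a.testBit 7 then 1 else 0) * (if b.testBit (12 + k.val) then 1 else 0)
    rw [Nat.zero_add, hm, testBit_asm1 _ _ _ _ _ (h 0) k.isLt, hrow]
    exact bool_key _ _ _ _ _ _ _ _
  · show (if (mulC a b).testBit (8 + k.val) then (1 : ZMod 2) else 0) =
      (if a.testBit 8 then 1 else 0) * (if b.testBit (0 + k.val) then 1 else 0) +
      (if a.testBit 9 then 1 else 0) * (if b.testBit (4 + k.val) then 1 else 0) +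
      (if a.testBit 10 then 1 else 0) * (if b.testBit (8 + k.val) then 1 else 0) +
      (if a.testBit 11 then 1 else 0) * (if b.testBit (12 + k.val) then 1 else 0)
    rw [Nat.zero_add, hm, testBit_asm2 _ _ _ _ _ (h 0) (h 4) k.isLt, hrow]
    exact bool_key _ _ _ _ _ _ _ _
  · show (if (mulC a b).testBit (12 + k.val) then (1 : ZMod 2) else 0) =
      (if a.testBit 12 then 1 else 0) * (if b.testBit (0 + k.val) then 1 else 0) +
      (if a.testBit 13 then 1 else 0) * (if b.testBit (4 + k.val) then 1 else 0) +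
      (if a.testBit 14 then 1 else 0) * (if b.testBit (8 + k.val) then 1 else 0) +
      (if a.testBit 15 then 1 else 0) * (if b.testBit (12 + k.val) then 1 else 0)
    rw [Nat.zero_add, hm, testBit_asm3 _ _ _ _ _ (h 0) (h 4) (h 8) k.isLt, hrow]
    exact bool_key _ _ _ _ _ _ _ _

/-- the code of the identity. -/
abbrev idC : ℕ := 33825

theorem dec_idC : dec idC = 1 := by
  ext i j
  fin_cases i <;> fin_cases j <;> rfl

theorem dec_injective {a b : ℕ} (ha : a < 65536) (hb : b < 65536) (h : dec a = dec b) : a = b := by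
  apply Nat.eq_of_testBit_eq
  intro p
  by_cases hp : p < 16
  · have h1 := congrFun (congrFun h ⟨p / 4, by omega⟩) ⟨p % 4, Nat.mod_lt _ (by norm_num)⟩
    simp only [dec] at h1
    have e : 4 * (p / 4) + p % 4 = p := Nat.div_add_mod p 4
    rw [e] at h1
    cases h2 : a.testBit p <;> cases h3 : b.testBit p <;> simp [h2, h3] at h1 <;> rfl
  · have h16 : (65536 : ℕ) = 2 ^ 16 := by norm_num
    rw [Nat.testBit_lt_two_pow, Nat.testBit_lt_two_pow]
    · calc b < 2 ^ 16 := by omega
        _ ≤ 2 ^ p := Nat.pow_le_pow_right (by norm_num) (by omega)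
    · calc a < 2 ^ 16 := by omega
        _ ≤ 2 ^ p := Nat.pow_le_pow_right (by norm_num) (by omega)

theorem mulC_assoc (a b c : ℕ) : mulC (mulC a b) c = mulC a (mulC b c) := by
  apply dec_injective (mulC_lt _ _) (mulC_lt _ _)
  rw [dec_mulC, dec_mulC, dec_mulC, dec_mulC, mul_assoc]

theorem mulC_idC_left {a : ℕ} (ha : a < 65536) : mulC idC a = a := by
  apply dec_injective (mulC_lt _ _) ha
  rw [dec_mulC, dec_idC, one_mul]

theorem mulC_idC_right {a : ℕ} (ha : a < 65536) : mulC a idC = a := by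
  apply dec_injective (mulC_lt _ _) ha
  rw [dec_mulC, dec_idC, mul_one]

/-- the code of an element of the first factor. -/
def xC (x : ℕ) : ℕ := lkF 16 65535 tXT x

/-- the code of an element of the second factor. -/
def yC (y : ℕ) : ℕ := lkF 16 65535 tYT y

theorem xC_lt (x : ℕ) : xC x < 65536 := lkF_lt 16 tXT x

theorem yC_lt (y : ℕ) : yC y < 65536 := lkF_lt 16 tYT y

/-- the code of the element with a number. -/
def matOf (e : ℕ) : ℕ := mulC (xC (Nat.div e 120)) (yC (Nat.mod e 120))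

theorem matOf_lt (e : ℕ) : matOf e < 65536 := mulC_lt _ _

/-- the product of two numbers of elements. -/
def mulF (a b : ℕ) : ℕ :=
  sapp (fun a => sapp (fun b =>
    sapp (fun t => sapp (fun X => sapp (fun Y => Nat.add (Nat.mul X 120) Y)
      (lkF 8 255 tT3 (Nat.add (Nat.mul (Nat.land t 127) 120) (Nat.mod b 120))))
      (lkF 8 255 tT2 (Nat.add (Nat.mul (Nat.div a 120) 168) (Nat.shiftRight t 7))))
      (lkF 16 65535 tT1 (Nat.add (Nat.mul (Nat.mod a 120) 168) (Nat.div b 120)))) b) a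

/-- the entry of the first table. -/
def t1 (y x : ℕ) : ℕ := lkF 16 65535 tT1 (y * 168 + x)

/-- the entry of the second table. -/
def t2 (x x' : ℕ) : ℕ := lkF 8 255 tT2 (x * 168 + x')

/-- the entry of the third table. -/
def t3 (y y' : ℕ) : ℕ := lkF 8 255 tT3 (y * 120 + y')

theorem mulF_eq (a b : ℕ) : mulF a b =
    t2 (a / 120) (t1 (a % 120) (b / 120) >>> 7) * 120 + t3 (t1 (a % 120) (b / 120) &&& 127) (b % 120) := by
  simp only [mulF, sapp_eq]; rfl

set_option maxRecDepth 1000000 in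
theorem tab2_b : allB (fun x => allB (fun x' => andB (Nat.beq (mulC (xC x) (xC x')) (xC (t2 x x')))
    (Nat.blt (t2 x x') 168)) 168) 168 = true := by decide +kernel

set_option maxRecDepth 1000000 in
theorem tab3_b : allB (fun y => allB (fun y' => andB (Nat.beq (mulC (yC y) (yC y')) (yC (t3 y y')))
    (Nat.blt (t3 y y') 120)) 120) 120 = true := by decide +kernel

set_option maxRecDepth 1000000 in
theorem tab1_b : allB (fun y => allB (fun x => andB (Nat.beq (mulC (yC y) (xC x))
    (mulC (xC (Nat.shiftRight (t1 y x) 7)) (yC (Nat.land (t1 y x) 127))))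
    (andB (Nat.blt (Nat.shiftRight (t1 y x) 7) 168) (Nat.blt (Nat.land (t1 y x) 127) 120))) 168) 120 = true := by
  decide +kernel

theorem tab2 {x x' : ℕ} (hx : x < 168) (hx' : x' < 168) :
    mulC (xC x) (xC x') = xC (t2 x x') ∧ t2 x x' < 168 := by
  have h := andB_true (allB_true (allB_true tab2_b hx) hx')
  exact ⟨Nat.eq_of_beq_eq_true h.1, by simpa using h.2⟩

theorem tab3 {y y' : ℕ} (hy : y < 120) (hy' : y' < 120) :
    mulC (yC y) (yC y') = yC (t3 y y') ∧ t3 y y' < 120 := by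
  have h := andB_true (allB_true (allB_true tab3_b hy) hy')
  exact ⟨Nat.eq_of_beq_eq_true h.1, by simpa using h.2⟩

theorem tab1 {y x : ℕ} (hy : y < 120) (hx : x < 168) :
    mulC (yC y) (xC x) = mulC (xC (t1 y x >>> 7)) (yC (t1 y x &&& 127)) ∧ t1 y x >>> 7 < 168 ∧
      t1 y x &&& 127 < 120 := by
  have h := andB_true (allB_true (allB_true tab1_b hy) hx)
  have h2 := andB_true h.2
  exact ⟨Nat.eq_of_beq_eq_true h.1, by simpa using h2.1, by simpa using h2.2⟩

/-- the number of elements. -/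
abbrev nG : ℕ := 20160

theorem mulF_lt {a b : ℕ} (ha : a < nG) (hb : b < nG) : mulF a b < nG := by
  rw [mulF_eq]
  have h1 := tab1 (Nat.mod_lt a (by norm_num : 120 > 0)) (show b / 120 < 168 by unfold nG at hb; omega)
  have h2 := tab2 (show a / 120 < 168 by unfold nG at ha; omega) h1.2.1
  have h3 := tab3 h1.2.2 (Nat.mod_lt b (by norm_num : 120 > 0))
  have := h2.2
  have := h3.2
  unfold nG
  omega

theorem matOf_mulF {a b : ℕ} (ha : a < nG) (hb : b < nG) :
    matOf (mulF a b) = mulC (matOf a) (matOf b) := by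
  have h1 := tab1 (Nat.mod_lt a (by norm_num : 120 > 0)) (show b / 120 < 168 by unfold nG at hb; omega)
  have h2 := tab2 (show a / 120 < 168 by unfold nG at ha; omega) h1.2.1
  have h3 := tab3 h1.2.2 (Nat.mod_lt b (by norm_num : 120 > 0))
  have e1 : mulF a b / 120 = t2 (a / 120) (t1 (a % 120) (b / 120) >>> 7) := by
    rw [mulF_eq]
    have := h3.2
    omega
  have e2 : mulF a b % 120 = t3 (t1 (a % 120) (b / 120) &&& 127) (b % 120) := by
    rw [mulF_eq]
    have := h3.2
    omega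
  show mulC (xC (mulF a b / 120)) (yC (mulF a b % 120)) =
    mulC (mulC (xC (a / 120)) (yC (a % 120))) (mulC (xC (b / 120)) (yC (b % 120)))
  rw [e1, e2, ← h2.1, ← h3.1, mulC_assoc, mulC_assoc, ← mulC_assoc (yC (a % 120)), h1.1, mulC_assoc]

end Cfsg.Agent.Helper9.G42
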