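import Mathlib
import Cfsg.Agent.Helper9.G42.Fast

set_option autoImplicit false

/-!
The elements of the general linear group of degree four over the field with two elements, by their
numbers.
-/

namespace Cfsg.Agent.Helper9.G42

open Cfsg.Agent.Helper9.J3

/-- the group. -/
abbrev G : Type := GL (Fin 4) (ZMod 2)

/-- the number of the inverse. -/
def invF (e : ℕ) : ℕ := lkF 16 65535 tINV e

set_option maxRecDepth 1000000 in
theorem inv_b : allB (fun e => andB (Nat.blt (invF e) 20160) (Nat.beq (mulF e (invF e)) 0)) 20160 = true := by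
  decide +kernel

set_option maxRecDepth 1000000 in
theorem idx_b : allB (fun e => Nat.beq (lkF 16 65535 tIDX (matOf e)) e) 20160 = true := by
  decide +kernel

theorem invF_lt {e : ℕ} (he : e < nG) : invF e < nG := by
  have h := (andB_true (allB_true inv_b he)).1
  simpa using h

theorem mulF_invF {e : ℕ} (he : e < nG) : mulF e (invF e) = 0 :=
  Nat.eq_of_beq_eq_true (andB_true (allB_true inv_b he)).2

theorem matOf_injective {a b : ℕ} (ha : a < nG) (hb : b < nG) (h : matOf a = matOf b) : a = b := by
  have h1 := Nat.eq_of_beq_eq_true (allB_true idx_b ha)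
  have h2 := Nat.eq_of_beq_eq_true (allB_true idx_b hb)
  rw [← h1, ← h2, h]

theorem matOf_zero : matOf 0 = idC := by decide +kernel

theorem dec_matOf_mul_inv {e : ℕ} (he : e < nG) : dec (matOf e) * dec (matOf (invF e)) = 1 := by
  rw [← dec_mulC, ← matOf_mulF he (invF_lt he), mulF_invF he, matOf_zero, dec_idC]

/-- the element with a number. -/
noncomputable def elt (e : ℕ) : G :=
  if h : e < nG then
    ⟨dec (matOf e), dec (matOf (invF e)), dec_matOf_mul_inv h,
      mul_eq_one_comm.mp (dec_matOf_mul_inv h)⟩
  else 1

theorem elt_val {e : ℕ} (he : e < nG) : (elt e : Matrix (Fin 4) (Fin 4) (ZMod 2)) = dec (matOf e) := by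
  rw [elt, dif_pos he]

theorem elt_zero : elt 0 = 1 := by
  apply Units.ext
  rw [elt_val (by norm_num), matOf_zero, dec_idC]
  rfl

theorem elt_mulF {a b : ℕ} (ha : a < nG) (hb : b < nG) : elt (mulF a b) = elt a * elt b := by
  apply Units.ext
  rw [Units.val_mul, elt_val (mulF_lt ha hb), elt_val ha, elt_val hb, matOf_mulF ha hb, dec_mulC]

theorem elt_invF {a : ℕ} (ha : a < nG) : elt (invF a) = (elt a)⁻¹ := by
  apply eq_inv_of_mul_eq_one_right
  rw [← elt_mulF ha (invF_lt ha), mulF_invF ha, elt_zero]

theorem elt_injective {a b : ℕ} (ha : a < nG) (hb : b < nG) (h : elt a = elt b) : a = b := by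
  apply matOf_injective ha hb
  apply dec_injective (matOf_lt _) (matOf_lt _)
  rw [← elt_val ha, ← elt_val hb, h]

theorem card_G : Nat.card G = nG := by
  rw [Matrix.card_GL_field, ZMod.card, Fin.prod_univ_four]
  rfl

theorem elt_surjective (g : G) : ∃ e, e < nG ∧ elt e = g := by
  classical
  have : Finite G := Nat.finite_of_card_ne_zero (by rw [card_G]; norm_num)
  have : Fintype G := Fintype.ofFinite G
  let f : Fin nG → G := fun e => elt e.val
  have hf : Function.Injective f := fun a b h => Fin.ext (elt_injective a.isLt b.isLt h)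
  have hc : Fintype.card (Fin nG) = Fintype.card G := by
    rw [Fintype.card_fin, ← Nat.card_eq_fintype_card, card_G]
  obtain ⟨e, he⟩ := ((Fintype.bijective_iff_injective_and_card f).mpr ⟨hf, hc⟩).2 g
  exact ⟨e.val, e.isLt, he⟩

/-- the number of an element. -/
noncomputable def num (g : G) : ℕ := (elt_surjective g).choose

theorem num_lt (g : G) : num g < nG := (elt_surjective g).choose_spec.1

theorem elt_num (g : G) : elt (num g) = g := (elt_surjective g).choose_spec.2

theorem num_elt {e : ℕ} (he : e < nG) : num (elt e) = e :=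
  elt_injective (num_lt _) he (elt_num _)

theorem mulF_one_left {a : ℕ} (ha : a < nG) : mulF 0 a = a := by
  apply elt_injective (mulF_lt (by norm_num) ha) ha
  rw [elt_mulF (by norm_num) ha, elt_zero, one_mul]

end Cfsg.Agent.Helper9.G42
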