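import Mathlib
import Cfsg.Agent.Helper9.G42.Elt

set_option autoImplicit false

/-!
Certificates for the classes of subgroups of the general linear group of degree four over the field
with two elements, the checks of them that the kernel computes, and what the checks prove.
-/

namespace Cfsg.Agent.Helper9.G42

open Cfsg.Agent.Helper9.J3

/-- the certificate that a subgroup with one more generator is a conjugate of a listed one. -/
structure Rep where
  /-- the new generator. -/
  r : ℕ
  /-- its inverse. -/
  ri : ℕ
  /-- the class. -/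
  j : ℕ
  /-- the conjugating element. -/
  x : ℕ
  /-- its inverse. -/
  xi : ℕ
  /-- the words for the generators of the class. -/
  ws : List (List ℕ)

/-- the certificates of a class of subgroups. -/
structure Cls where
  /-- generators, with inverses. -/
  gens : List (ℕ × ℕ)
  /-- further generators of the normaliser, with inverses. -/
  norm : List (ℕ × ℕ)
  /-- the number of elements. -/
  nel : ℕ
  /-- the elements, in pieces of 16 bits. -/
  els : ℕ
  /-- the positions of the parents, in pieces of 16 bits. -/
  par : ℕ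
  /-- the generators to the parents, in pieces of 4 bits. -/
  gi : ℕ
  /-- the depths, in pieces of 8 bits. -/
  dep : ℕ
  /-- the set of elements. -/
  bm : ℕ
  /-- ranks and moves, in pieces of 10 bits. -/
  mr : ℕ
  /-- the set of representatives. -/
  rb : ℕ
  /-- the certificates of the representatives. -/
  reps : List Rep
  /-- the prime of a normal subgroup. -/
  radp : ℕ
  /-- the elements of a normal subgroup. -/
  rad : List ℕ

/-- the disjunction. -/
def orB (a b : Bool) : Bool := Bool.rec b true a

theorem orB_true {a b : Bool} (h : orB a b = true) : a = true ∨ b = true := by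
  cases a
  · exact Or.inr h
  · exact Or.inl rfl

/-- the universal quantifier over a list. -/
def allL {α : Type} (p : α → Bool) (l : List α) : Bool := List.rec true (fun a _ ih => andB (p a) ih) l

theorem allL_true {α : Type} {p : α → Bool} {l : List α} (h : allL p l = true) {a : α} (ha : a ∈ l) :
    p a = true := by
  induction l with
  | nil => exact absurd ha List.not_mem_nil
  | cons b l ih =>
    have h' := andB_true (show andB (p b) (allL p l) = true from h)
    rcases List.mem_cons.mp ha with rfl | h1
    · exact h'.1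
    · exact ih h'.2 h1

/-- the entry of a list of pairs. -/
def nthP (l : List (ℕ × ℕ)) (i : ℕ) : ℕ × ℕ :=
  List.rec (motive := fun _ => ℕ → ℕ × ℕ) (fun _ => (0, 0))
    (fun a _ ih i => Nat.rec a (fun i' _ => ih i') i) l i

theorem nthP_mem (l : List (ℕ × ℕ)) (i : ℕ) : nthP l i ∈ l ∨ nthP l i = (0, 0) := by
  induction l generalizing i with
  | nil => exact Or.inr rfl
  | cons a l ih =>
    cases i with
    | zero => exact Or.inl List.mem_cons_self
    | succ i =>
      rcases ih i with h | h
      · exact Or.inl (List.mem_cons_of_mem _ h)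
      · exact Or.inr h

/-- the length of a list. -/
def lenL {α : Type} (l : List α) : ℕ := List.rec 0 (fun _ _ ih => Nat.succ ih) l

theorem lenL_eq {α : Type} (l : List α) : lenL l = l.length := by
  induction l with
  | nil => rfl
  | cons a l ih => exact congrArg Nat.succ ih

/-- membership in a list of numbers. -/
def memL (a : ℕ) (l : List ℕ) : Bool := List.rec false (fun b _ ih => orB (Nat.beq a b) ih) l

theorem memL_true {a : ℕ} {l : List ℕ} (h : memL a l = true) : a ∈ l := by
  induction l with
  | nil => exact absurd h Bool.false_ne_true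
  | cons b l ih =>
    rcases orB_true (show orB (Nat.beq a b) (memL a l) = true from h) with h1 | h1
    · rw [Nat.eq_of_beq_eq_true h1]
      exact List.mem_cons_self
    · exact List.mem_cons_of_mem _ (ih h1)

/-- a bit of a number. -/
def tb (B i : ℕ) : Bool := Nat.beq (Nat.land (Nat.shiftRight B i) 1) 1

theorem tb_eq (B i : ℕ) : tb B i = B.testBit i := by
  show Nat.beq ((B >>> i) &&& 1) 1 = _
  rw [Nat.testBit, Nat.and_comm]
  have h2 : 1 &&& B >>> i ≤ 1 := Nat.and_le_left
  by_cases h : 1 &&& B >>> i = 0
  · rw [h]; rfl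
  · have : 1 &&& B >>> i = 1 := by omega
    rw [this]; rfl

/-- the element at a position. -/
def elA (D : Cls) (n : ℕ) : ℕ := lkF 16 65535 D.els n

/-- the check of the generators. -/
def chkGens (l : List (ℕ × ℕ)) : Bool :=
  allL (fun s => andB (Nat.blt s.1 20160) (andB (Nat.blt s.2 20160) (Nat.beq (mulF s.1 s.2) 0))) l

/-- the check of the elements of a class. -/
def chkK (D : Cls) : Bool :=
  andB (Nat.beq D.bm (maskF (elA D) D.nel)) (allB (fun n => sapp (fun e => sapp (fun dp =>
    andB (Nat.blt e 20160) (Nat.rec (Nat.beq e 0) (fun dp' _ =>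
      sapp (fun p => sapp (fun g =>
        andB (Nat.blt p D.nel) (andB (Nat.beq (lkF 8 255 D.dep p) dp')
          (Nat.beq (mulF (elA D p) (nthP D.gens g).1) e))) (lkF 4 15 D.gi n)) (lkF 16 65535 D.par n)) dp))
    (lkF 8 255 D.dep n)) (elA D n)) D.nel)

/-- the check of the normaliser. -/
def chkNorm (D : Cls) : Bool :=
  allL (fun p => allL (fun s => andB (tb D.bm (mulF (mulF p.1 s.1) p.2))
    (tb D.bm (mulF (mulF p.2 s.1) p.1))) D.gens) D.norm

/-- a move by a generator of the subgroup. -/
def move4 (s1 s2 n m : ℕ) : ℕ :=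
  Nat.rec (mulF s1 n) (fun m _ => Nat.rec (mulF s2 n) (fun m' _ => Nat.rec (mulF n s1)
    (fun _ _ => mulF n s2) m') m) m

/-- a move by a generator of the normaliser. -/
def move2 (c1 c2 n m : ℕ) : ℕ :=
  Nat.rec (mulF (mulF c1 n) c2) (fun _ _ => mulF (mulF c2 n) c1) m

/-- a move. -/
def move (D : Cls) (d n : ℕ) : ℕ :=
  sapp (fun ng4 => Bool.rec
    (sapp (fun d' => sapp (fun c1 => sapp (fun c2 => move2 c1 c2 n (Nat.mod d' 2))
      (nthP D.norm (Nat.div d' 2)).2) (nthP D.norm (Nat.div d' 2)).1) (Nat.sub d ng4))
    (sapp (fun s1 => sapp (fun s2 => move4 s1 s2 n (Nat.mod d 4))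
      (nthP D.gens (Nat.div d 4)).2) (nthP D.gens (Nat.div d 4)).1)
    (Nat.blt d ng4)) (Nat.mul 4 (lenL D.gens))

/-- the check of the reduction to the representatives. -/
def chkRed (D : Cls) : Bool :=
  allB (fun n => sapp (fun m => sapp (fun d => sapp (fun r =>
    Bool.rec
      (sapp (fun g' => andB (Nat.blt g' 20160) (Nat.blt (Nat.shiftRight (lkF 10 1023 D.mr g') 5) r))
        (move D d n))
      (orB (tb D.bm n) (tb D.rb n))
      (Nat.beq d 31)) (Nat.shiftRight m 5)) (Nat.land m 31)) (lkF 10 1023 D.mr n)) 20160

/-- the value of a letter. -/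
def letV (r ri l : ℕ) : ℕ :=
  Bool.rec (Bool.rec ri r (Nat.beq l 20160)) l (Nat.blt l 20160)

/-- the value of a word. -/
def wordV (r ri : ℕ) (w : List ℕ) : ℕ := List.rec 0 (fun l _ ih => mulF (letV r ri l) ih) w

/-- the check of the letters of a word. -/
def wordOk (D : Cls) (w : List ℕ) : Bool := allL (fun l => orB (tb D.bm l) (Nat.ble 20160 l)) w

/-- the check of the words for the generators. -/
def chkWords (D : Cls) (r ri x xi : ℕ) (gs : List (ℕ × ℕ)) (ws : List (List ℕ)) : Bool :=
  List.rec (motive := fun _ => List (List ℕ) → Bool) (fun ws => List.rec true (fun _ _ _ => false) ws)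
    (fun t _ ih ws => List.rec false (fun w ws' _ =>
      andB (wordOk D w) (andB (Nat.beq (wordV r ri w) (mulF (mulF x t.1) xi)) (ih ws'))) ws) gs ws

/-- the check of the certificate of a representative. -/
def chkRep (cls : ℕ → Cls) (D : Cls) (R : Rep) : Bool :=
  andB (Nat.blt R.r 20160) (andB (Nat.blt R.ri 20160) (andB (Nat.blt R.x 20160) (andB (Nat.blt R.xi 20160)
    (andB (Nat.beq (mulF R.r R.ri) 0) (andB (Nat.beq (mulF R.x R.xi) 0) (andB (Nat.blt R.j 137)
      (andB (allL (fun s => tb (cls R.j).bm (mulF (mulF R.xi s.1) R.x)) D.gens)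
        (andB (tb (cls R.j).bm (mulF (mulF R.xi R.r) R.x))
          (chkWords D R.r R.ri R.x R.xi (cls R.j).gens R.ws)))))))))

/-- the set of the representatives. -/
def maskR (l : List Rep) : ℕ := List.rec 0 (fun R _ ih => Nat.lor (Nat.shiftLeft 1 R.r) ih) l

/-- the check of the certificates of the representatives. -/
def chkClo (cls : ℕ → Cls) (D : Cls) : Bool :=
  andB (Nat.beq D.rb (maskR D.reps)) (allL (chkRep cls D) D.reps)

/-- all the checks of a class. -/
def chkAll (cls : ℕ → Cls) (D : Cls) : Bool :=
  andB (chkGens D.gens) (andB (chkGens D.norm) (andB (chkK D) (andB (chkNorm D) (andB (chkRed D)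
    (chkClo cls D)))))

end Cfsg.Agent.Helper9.G42
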