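import Mathlib
import Cfsg.Agent.Helper9.G42.Cls

set_option autoImplicit false

/-!
What the checks of the certificates prove: every subgroup of the general linear group of degree four
over the field with two elements is a conjugate of a listed one.
-/

namespace Cfsg.Agent.Helper9.G42

open Cfsg.Agent.Helper9.J3

theorem lt_of_blt {a b : ℕ} (h : Nat.blt a b = true) : a < b := by simpa using h

/-- the generators of a class. -/
def gensG (D : Cls) : Set G := {g | ∃ p ∈ D.gens, g = elt p.1}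

/-- the subgroup of a class. -/
def K (D : Cls) : Subgroup G := Subgroup.closure (gensG D)

theorem chkGens_spec {l : List (ℕ × ℕ)} (h : chkGens l = true) {s : ℕ × ℕ} (hs : s ∈ l) :
    s.1 < nG ∧ s.2 < nG ∧ elt s.2 = (elt s.1)⁻¹ := by
  have h1 := andB_true (allL_true h hs)
  have h2 := andB_true h1.2
  have a1 := lt_of_blt h1.1
  have a2 := lt_of_blt h2.1
  refine ⟨a1, a2, ?_⟩
  apply eq_inv_of_mul_eq_one_right
  rw [← elt_mulF a1 a2, Nat.eq_of_beq_eq_true h2.2, elt_zero]

theorem nthP_spec {l : List (ℕ × ℕ)} (h : chkGens l = true) (i : ℕ) :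
    (nthP l i).1 < nG ∧ (nthP l i).2 < nG ∧ elt (nthP l i).2 = (elt (nthP l i).1)⁻¹ ∧
      (nthP l i ∈ l ∨ nthP l i = (0, 0)) := by
  rcases nthP_mem l i with h1 | h1
  · obtain ⟨a, b, c⟩ := chkGens_spec h h1
    exact ⟨a, b, c, Or.inl h1⟩
  · rw [h1]
    refine ⟨by norm_num, by norm_num, ?_, Or.inr rfl⟩
    show elt 0 = (elt 0)⁻¹
    rw [elt_zero, inv_one]

theorem gen_mem_K {D : Cls} {s : ℕ × ℕ} (hs : s ∈ D.gens) : elt s.1 ∈ K D :=
  Subgroup.subset_closure ⟨s, hs, rfl⟩

theorem nthP_mem_K {D : Cls} (i : ℕ) : elt (nthP D.gens i).1 ∈ K D := by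
  rcases nthP_mem D.gens i with h1 | h1
  · exact gen_mem_K h1
  · rw [h1]
    show elt 0 ∈ K D
    rw [elt_zero]
    exact Subgroup.one_mem _

theorem mem_K_of_tb {D : Cls} (hg : chkGens D.gens = true) (hk : chkK D = true) {c : ℕ}
    (hc : tb D.bm c = true) : c < nG ∧ elt c ∈ K D := by
  obtain ⟨h1, h2⟩ := andB_true hk
  have hbm : D.bm = maskF (elA D) D.nel := Nat.eq_of_beq_eq_true h1
  rw [tb_eq, hbm, testBit_maskF] at hc
  obtain ⟨n, hn, hnc⟩ := of_decide_eq_true hc
  have key : ∀ d n, n < D.nel → lkF 8 255 D.dep n = d → elA D n < nG ∧ elt (elA D n) ∈ K D := by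
    intro d
    induction d with
    | zero =>
      intro n hn hd
      have h3 := allB_true h2 hn
      simp only [sapp_eq] at h3
      rw [hd] at h3
      have h4 := andB_true h3
      have h5 : elA D n = 0 := Nat.eq_of_beq_eq_true h4.2
      rw [h5, elt_zero]
      exact ⟨by norm_num, Subgroup.one_mem _⟩
    | succ d ih =>
      intro n hn hd
      have h3 := allB_true h2 hn
      simp only [sapp_eq] at h3
      rw [hd] at h3
      have h4 := andB_true h3
      have h5 := andB_true h4.2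
      have h6 := andB_true h5.2
      obtain ⟨hp1, hp2⟩ := ih _ (lt_of_blt h5.1) (Nat.eq_of_beq_eq_true h6.1)
      have hs := nthP_spec hg (lkF 4 15 D.gi n)
      have e : elA D n = mulF (elA D (lkF 16 65535 D.par n)) (nthP D.gens (lkF 4 15 D.gi n)).1 :=
        (Nat.eq_of_beq_eq_true h6.2).symm
      refine ⟨lt_of_blt h4.1, ?_⟩
      rw [e, elt_mulF hp1 hs.1]
      exact Subgroup.mul_mem _ hp2 (nthP_mem_K _)
  rw [← hnc]
  exact key _ n hn rfl

/-- normalising elements. -/
def Nz (D : Cls) (n : G) : Prop := ∀ k ∈ K D, n * k * n⁻¹ ∈ K D ∧ n⁻¹ * k * n ∈ K D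

theorem Nz_one (D : Cls) : Nz D 1 := fun k hk => by simpa using hk

theorem Nz_inv {D : Cls} {n : G} (h : Nz D n) : Nz D n⁻¹ := fun k hk => by
  rw [inv_inv]
  exact ⟨(h k hk).2, (h k hk).1⟩

theorem Nz_of_gens {D : Cls} {n : G} (h : ∀ s ∈ D.gens, n * elt s.1 * n⁻¹ ∈ K D ∧ n⁻¹ * elt s.1 * n ∈ K D) :
    Nz D n := by
  intro k hk
  induction hk using Subgroup.closure_induction with
  | mem x hx =>
    obtain ⟨s, hs, rfl⟩ := hx
    exact h s hs
  | one => simp
  | mul x y _ _ hx hy =>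
    constructor
    · have : n * (x * y) * n⁻¹ = (n * x * n⁻¹) * (n * y * n⁻¹) := by group
      rw [this]
      exact Subgroup.mul_mem _ hx.1 hy.1
    · have : n⁻¹ * (x * y) * n = (n⁻¹ * x * n) * (n⁻¹ * y * n) := by group
      rw [this]
      exact Subgroup.mul_mem _ hx.2 hy.2
  | inv x _ hx =>
    constructor
    · have : n * x⁻¹ * n⁻¹ = (n * x * n⁻¹)⁻¹ := by group
      rw [this]
      exact Subgroup.inv_mem _ hx.1
    · have : n⁻¹ * x⁻¹ * n = (n⁻¹ * x * n)⁻¹ := by group
      rw [this]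
      exact Subgroup.inv_mem _ hx.2

theorem norm_Nz {D : Cls} (hg : chkGens D.gens = true) (hng : chkGens D.norm = true) (hk : chkK D = true)
    (hn : chkNorm D = true) {p : ℕ × ℕ} (hp : p ∈ D.norm) : Nz D (elt p.1) := by
  obtain ⟨p1, p2, pe⟩ := chkGens_spec hng hp
  apply Nz_of_gens
  intro s hs
  obtain ⟨s1, -, -⟩ := chkGens_spec hg hs
  have h1 := andB_true (allL_true (allL_true hn hp) hs)
  have a := (mem_K_of_tb hg hk h1.1).2
  have b := (mem_K_of_tb hg hk h1.2).2
  rw [elt_mulF (mulF_lt p1 s1) p2, elt_mulF p1 s1, pe] at a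
  rw [elt_mulF (mulF_lt p2 s1) p1, elt_mulF p2 s1, pe] at b
  exact ⟨a, b⟩

theorem nthP_Nz {D : Cls} (hg : chkGens D.gens = true) (hng : chkGens D.norm = true) (hk : chkK D = true)
    (hn : chkNorm D = true) (i : ℕ) : Nz D (elt (nthP D.norm i).1) := by
  rcases nthP_mem D.norm i with h1 | h1
  · exact norm_Nz hg hng hk hn h1
  · rw [h1]
    show Nz D (elt 0)
    rw [elt_zero]
    exact Nz_one D

theorem map_conj_K {D : Cls} {n : G} (h : Nz D n) : (K D).map (MulAut.conj n).toMonoidHom = K D := by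
  apply le_antisymm
  · rintro _ ⟨k, hk, rfl⟩
    exact (h k hk).1
  · intro k hk
    refine ⟨n⁻¹ * k * n, (h k hk).2, ?_⟩
    simp [MulAut.conj_apply, mul_assoc]

/-- the subgroup generated by a class and an element is a conjugate of a listed one. -/
def P (cls : ℕ → Cls) (D : Cls) (g : G) : Prop :=
  ∃ j, j < 137 ∧ ∃ y : G, K D ⊔ Subgroup.zpowers g = (K (cls j)).map (MulAut.conj y).toMonoidHom

theorem sup_zpowers_mul_left {D : Cls} {s g : G} (hs : s ∈ K D) :
    K D ⊔ Subgroup.zpowers (s * g) = K D ⊔ Subgroup.zpowers g := by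
  apply le_antisymm
  · apply sup_le le_sup_left
    rw [Subgroup.zpowers_le]
    exact Subgroup.mul_mem _ (Subgroup.mem_sup_left hs) (Subgroup.mem_sup_right (Subgroup.mem_zpowers g))
  · apply sup_le le_sup_left
    rw [Subgroup.zpowers_le]
    have h1 := Subgroup.mul_mem _ (Subgroup.mem_sup_left (T := Subgroup.zpowers (s * g)) (Subgroup.inv_mem _ hs))
      (Subgroup.mem_sup_right (Subgroup.mem_zpowers (s * g)))
    rwa [inv_mul_cancel_left] at h1

theorem sup_zpowers_mul_right {D : Cls} {s g : G} (hs : s ∈ K D) :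
    K D ⊔ Subgroup.zpowers (g * s) = K D ⊔ Subgroup.zpowers g := by
  apply le_antisymm
  · apply sup_le le_sup_left
    rw [Subgroup.zpowers_le]
    exact Subgroup.mul_mem _ (Subgroup.mem_sup_right (Subgroup.mem_zpowers g)) (Subgroup.mem_sup_left hs)
  · apply sup_le le_sup_left
    rw [Subgroup.zpowers_le]
    have h1 := Subgroup.mul_mem _ (Subgroup.mem_sup_right (Subgroup.mem_zpowers (g * s)))
      (Subgroup.mem_sup_left (T := Subgroup.zpowers (g * s)) (Subgroup.inv_mem _ hs))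
    rwa [mul_inv_cancel_right] at h1

theorem P_of_mul_left {cls : ℕ → Cls} {D : Cls} {s g : G} (hs : s ∈ K D) (h : P cls D (s * g)) : P cls D g := by
  obtain ⟨j, hj, y, hy⟩ := h
  exact ⟨j, hj, y, by rw [← hy, sup_zpowers_mul_left hs]⟩

theorem P_of_mul_right {cls : ℕ → Cls} {D : Cls} {s g : G} (hs : s ∈ K D) (h : P cls D (g * s)) : P cls D g := by
  obtain ⟨j, hj, y, hy⟩ := h
  exact ⟨j, hj, y, by rw [← hy, sup_zpowers_mul_right hs]⟩

theorem map_conj_map_conj (H : Subgroup G) (a b : G) :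
    (H.map (MulAut.conj b).toMonoidHom).map (MulAut.conj a).toMonoidHom = H.map (MulAut.conj (a * b)).toMonoidHom := by
  rw [Subgroup.map_map]
  congr 1
  ext x
  simp [MulAut.conj_apply, mul_assoc]

theorem map_conj_one (H : Subgroup G) : H.map (MulAut.conj (1 : G)).toMonoidHom = H := by
  ext x
  simp

theorem map_conj_sup_zpowers (H : Subgroup G) (n g : G) :
    (H ⊔ Subgroup.zpowers g).map (MulAut.conj n).toMonoidHom =
      H.map (MulAut.conj n).toMonoidHom ⊔ Subgroup.zpowers (n * g * n⁻¹) := by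
  rw [Subgroup.map_sup, MonoidHom.map_zpowers]
  rfl

theorem P_of_conj {cls : ℕ → Cls} {D : Cls} {n g : G} (hn : Nz D n) (h : P cls D (n * g * n⁻¹)) : P cls D g := by
  obtain ⟨j, hj, y, hy⟩ := h
  refine ⟨j, hj, n⁻¹ * y, ?_⟩
  rw [← map_conj_map_conj, ← hy, ← map_conj_K hn, ← map_conj_sup_zpowers, map_conj_map_conj, inv_mul_cancel,
    map_conj_one, map_conj_K hn]

end Cfsg.Agent.Helper9.G42
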