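import Mathlib
import Cfsg.Agent.Helper9.G42.Sem

set_option autoImplicit false

/-!
The check of the number of elements of a class of subgroups, and what it proves.
-/

namespace Cfsg.Agent.Helper9.G42

open Cfsg.Agent.Helper9.J3

/-- the check of the number of elements. -/
def chkCard (D : Cls) : Bool :=
  andB (tb D.bm 0)
  (andB (allB (fun n => sapp (fun e => allL (fun s => andB (tb D.bm (mulF e s.1)) (tb D.bm (mulF e s.2)))
    D.gens) (elA D n)) D.nel)
    (Nat.beq (sumF (fun n => Bool.rec 0 1 (tb D.bm n)) 20160) D.nel))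

theorem sumF_eq_sum (f : ℕ → ℕ) (m : ℕ) : sumF f m = ∑ i ∈ Finset.range m, f i := by
  induction m with
  | zero => rfl
  | succ m ih => rw [sumF_succ, Finset.sum_range_succ, ih, add_comm]

theorem num_mul_elt (g : G) {s : ℕ} (hs : s < nG) : num (g * elt s) = mulF (num g) s := by
  have h : g * elt s = elt (mulF (num g) s) := by
    rw [elt_mulF (num_lt g) hs, elt_num]
  rw [h, num_elt (mulF_lt (num_lt g) hs)]

theorem mem_K_iff {D : Cls} (hg : chkGens D.gens = true) (hk : chkK D = true) (hc : chkCard D = true) (g : G) :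
    g ∈ K D ↔ tb D.bm (num g) = true := by
  obtain ⟨c1, hc⟩ := andB_true hc
  obtain ⟨c2, c3⟩ := andB_true hc
  obtain ⟨k1, k2⟩ := andB_true hk
  have hbm : D.bm = maskF (elA D) D.nel := Nat.eq_of_beq_eq_true k1
  constructor
  · intro h
    have step : ∀ x : G, tb D.bm (num x) = true → ∀ s ∈ D.gens,
        tb D.bm (num (x * elt s.1)) = true ∧ tb D.bm (num (x * (elt s.1)⁻¹)) = true := by
      intro x hx s hs
      obtain ⟨s1, s2, se⟩ := chkGens_spec hg hs
      rw [tb_eq, hbm, testBit_maskF] at hx
      obtain ⟨n, hn, hnx⟩ := of_decide_eq_true hx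
      have h1 := allB_true c2 hn
      simp only [sapp_eq] at h1
      have h2 := andB_true (allL_true h1 hs)
      rw [hnx] at h2
      rw [← se, num_mul_elt x s1, num_mul_elt x s2]
      exact h2
    induction h using Subgroup.closure_induction_right with
    | one =>
      rw [← elt_zero, num_elt (by norm_num)]
      exact c1
    | mul_right x _ y hy ih =>
      obtain ⟨s, hs, rfl⟩ := hy
      exact (step x ih s hs).1
    | mul_inv_cancel x _ y hy ih =>
      obtain ⟨s, hs, rfl⟩ := hy
      exact (step x ih s hs).2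
  · intro h
    have := (mem_K_of_tb hg hk h).2
    rwa [elt_num] at this

theorem card_K {D : Cls} (hg : chkGens D.gens = true) (hk : chkK D = true) (hc : chkCard D = true) :
    Nat.card ↥(K D) = D.nel := by
  have c3 := (andB_true (andB_true hc).2).2
  have h1 : (K D : Set G) = elt '' ((Finset.filter (fun n => tb D.bm n = true) (Finset.range nG) : Finset ℕ) : Set ℕ) := by
    ext g
    rw [SetLike.mem_coe, mem_K_iff hg hk hc]
    constructor
    · intro h
      refine ⟨num g, ?_, elt_num g⟩
      rw [Finset.mem_coe, Finset.mem_filter, Finset.mem_range]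
      exact ⟨num_lt g, h⟩
    · rintro ⟨n, hn, rfl⟩
      rw [Finset.mem_coe, Finset.mem_filter, Finset.mem_range] at hn
      rw [num_elt hn.1]
      exact hn.2
  show Nat.card ↥(K D : Set G) = _
  rw [Nat.card_coe_set_eq, h1, Set.ncard_image_of_injOn, Set.ncard_coe_finset, Finset.card_filter,
    ← Nat.eq_of_beq_eq_true c3, sumF_eq_sum]
  · apply Finset.sum_congr rfl
    intro i _
    cases tb D.bm i <;> rfl
  · intro a ha b hb hab
    rw [Finset.mem_coe, Finset.mem_filter, Finset.mem_range] at ha hb
    exact elt_injective ha.1 hb.1 hab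

end Cfsg.Agent.Helper9.G42
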