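import Mathlib
import Cfsg.Agent.Helper9.G42.All
import Cfsg.Agent.Helper9.G42.ChkC25

set_option autoImplicit false
set_option maxRecDepth 1000000

/-!
The check of the certificates of class 41 of subgroups.
-/

namespace Cfsg.Agent.Helper9.G42

open Cfsg.Agent.Helper9.J3

theorem chk_41 : chkAll cls cD41 = true := by decide +kernel

end Cfsg.Agent.Helper9.G42
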