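import Mathlib
import Cfsg.Agent.Helper9.G42.ChkC0
import Cfsg.Agent.Helper9.G42.ChkC1
import Cfsg.Agent.Helper9.G42.ChkC2
import Cfsg.Agent.Helper9.G42.ChkC3
import Cfsg.Agent.Helper9.G42.ChkC4
import Cfsg.Agent.Helper9.G42.ChkC5
import Cfsg.Agent.Helper9.G42.ChkC6
import Cfsg.Agent.Helper9.G42.ChkC7
import Cfsg.Agent.Helper9.G42.ChkC8
import Cfsg.Agent.Helper9.G42.ChkC9
import Cfsg.Agent.Helper9.G42.ChkC10
import Cfsg.Agent.Helper9.G42.ChkC11
import Cfsg.Agent.Helper9.G42.ChkC12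
import Cfsg.Agent.Helper9.G42.ChkC13
import Cfsg.Agent.Helper9.G42.ChkC14
import Cfsg.Agent.Helper9.G42.ChkC15
import Cfsg.Agent.Helper9.G42.ChkC16
import Cfsg.Agent.Helper9.G42.ChkC17
import Cfsg.Agent.Helper9.G42.ChkC18
import Cfsg.Agent.Helper9.G42.ChkC19
import Cfsg.Agent.Helper9.G42.ChkC20
import Cfsg.Agent.Helper9.G42.ChkC21
import Cfsg.Agent.Helper9.G42.ChkC22
import Cfsg.Agent.Helper9.G42.ChkC23
import Cfsg.Agent.Helper9.G42.ChkC24
import Cfsg.Agent.Helper9.G42.ChkC25
import Cfsg.Agent.Helper9.G42.ChkC26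
import Cfsg.Agent.Helper9.G42.ChkC27
import Cfsg.Agent.Helper9.G42.ChkC28
import Cfsg.Agent.Helper9.G42.ChkC29
import Cfsg.Agent.Helper9.G42.ChkC30
import Cfsg.Agent.Helper9.G42.ChkC31
import Cfsg.Agent.Helper9.G42.ChkC32
import Cfsg.Agent.Helper9.G42.ChkC33
import Cfsg.Agent.Helper9.G42.ChkC34
import Cfsg.Agent.Helper9.G42.ChkC35
import Cfsg.Agent.Helper9.G42.ChkC36
import Cfsg.Agent.Helper9.G42.ChkC37
import Cfsg.Agent.Helper9.G42.ChkC38
import Cfsg.Agent.Helper9.G42.ChkC39
import Cfsg.Agent.Helper9.G42.ChkC40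
import Cfsg.Agent.Helper9.G42.ChkC41
import Cfsg.Agent.Helper9.G42.ChkC42
import Cfsg.Agent.Helper9.G42.ChkC43
import Cfsg.Agent.Helper9.G42.ChkC44
import Cfsg.Agent.Helper9.G42.ChkC45
import Cfsg.Agent.Helper9.G42.ChkC46
import Cfsg.Agent.Helper9.G42.ChkC47
import Cfsg.Agent.Helper9.G42.ChkC48
import Cfsg.Agent.Helper9.G42.ChkC49
import Cfsg.Agent.Helper9.G42.ChkC50
import Cfsg.Agent.Helper9.G42.ChkC51
import Cfsg.Agent.Helper9.G42.ChkC52
import Cfsg.Agent.Helper9.G42.ChkC53
import Cfsg.Agent.Helper9.G42.ChkC54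
import Cfsg.Agent.Helper9.G42.ChkC55
import Cfsg.Agent.Helper9.G42.ChkC56
import Cfsg.Agent.Helper9.G42.ChkC57
import Cfsg.Agent.Helper9.G42.ChkC58
import Cfsg.Agent.Helper9.G42.ChkC59
import Cfsg.Agent.Helper9.G42.ChkC60
import Cfsg.Agent.Helper9.G42.ChkC61
import Cfsg.Agent.Helper9.G42.ChkC62
import Cfsg.Agent.Helper9.G42.ChkC63
import Cfsg.Agent.Helper9.G42.ChkC64
import Cfsg.Agent.Helper9.G42.ChkC65
import Cfsg.Agent.Helper9.G42.ChkC66
import Cfsg.Agent.Helper9.G42.ChkC67
import Cfsg.Agent.Helper9.G42.ChkC68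
import Cfsg.Agent.Helper9.G42.ChkC69
import Cfsg.Agent.Helper9.G42.ChkC70
import Cfsg.Agent.Helper9.G42.ChkC71
import Cfsg.Agent.Helper9.G42.ChkC72
import Cfsg.Agent.Helper9.G42.ChkC73
import Cfsg.Agent.Helper9.G42.ChkC74
import Cfsg.Agent.Helper9.G42.ChkC75
import Cfsg.Agent.Helper9.G42.ChkC76
import Cfsg.Agent.Helper9.G42.ChkC77
import Cfsg.Agent.Helper9.G42.ChkC78
import Cfsg.Agent.Helper9.G42.ChkC79
import Cfsg.Agent.Helper9.G42.ChkC80
import Cfsg.Agent.Helper9.G42.ChkC81
import Cfsg.Agent.Helper9.G42.ChkC82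
import Cfsg.Agent.Helper9.G42.ChkC83
import Cfsg.Agent.Helper9.G42.ChkC84
import Cfsg.Agent.Helper9.G42.ChkC85
import Cfsg.Agent.Helper9.G42.ChkC86
import Cfsg.Agent.Helper9.G42.ChkC87
import Cfsg.Agent.Helper9.G42.ChkC88
import Cfsg.Agent.Helper9.G42.ChkC89
import Cfsg.Agent.Helper9.G42.ChkC90
import Cfsg.Agent.Helper9.G42.ChkC91
import Cfsg.Agent.Helper9.G42.ChkC92
import Cfsg.Agent.Helper9.G42.ChkC93
import Cfsg.Agent.Helper9.G42.ChkC94
import Cfsg.Agent.Helper9.G42.ChkC95
import Cfsg.Agent.Helper9.G42.ChkC96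
import Cfsg.Agent.Helper9.G42.ChkC97
import Cfsg.Agent.Helper9.G42.ChkC98
import Cfsg.Agent.Helper9.G42.ChkC99
import Cfsg.Agent.Helper9.G42.ChkC100
import Cfsg.Agent.Helper9.G42.ChkC101
import Cfsg.Agent.Helper9.G42.ChkC102
import Cfsg.Agent.Helper9.G42.ChkC103
import Cfsg.Agent.Helper9.G42.ChkC104
import Cfsg.Agent.Helper9.G42.ChkC105
import Cfsg.Agent.Helper9.G42.ChkC106
import Cfsg.Agent.Helper9.G42.ChkC107
import Cfsg.Agent.Helper9.G42.ChkC108
import Cfsg.Agent.Helper9.G42.ChkC109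
import Cfsg.Agent.Helper9.G42.ChkC110
import Cfsg.Agent.Helper9.G42.ChkC111
import Cfsg.Agent.Helper9.G42.ChkC112
import Cfsg.Agent.Helper9.G42.ChkC113
import Cfsg.Agent.Helper9.G42.ChkC114
import Cfsg.Agent.Helper9.G42.ChkC115
import Cfsg.Agent.Helper9.G42.ChkC116
import Cfsg.Agent.Helper9.G42.ChkC117
import Cfsg.Agent.Helper9.G42.ChkC118
import Cfsg.Agent.Helper9.G42.ChkC119
import Cfsg.Agent.Helper9.G42.ChkC120
import Cfsg.Agent.Helper9.G42.ChkC121
import Cfsg.Agent.Helper9.G42.ChkC122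
import Cfsg.Agent.Helper9.G42.ChkC123
import Cfsg.Agent.Helper9.G42.ChkC124
import Cfsg.Agent.Helper9.G42.ChkC125
import Cfsg.Agent.Helper9.G42.ChkC126
import Cfsg.Agent.Helper9.G42.ChkC127
import Cfsg.Agent.Helper9.G42.ChkC128
import Cfsg.Agent.Helper9.G42.ChkC129
import Cfsg.Agent.Helper9.G42.ChkC130
import Cfsg.Agent.Helper9.G42.ChkC131
import Cfsg.Agent.Helper9.G42.ChkC132
import Cfsg.Agent.Helper9.G42.ChkC133
import Cfsg.Agent.Helper9.G42.ChkC134
import Cfsg.Agent.Helper9.G42.ChkC135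
import Cfsg.Agent.Helper9.G42.ChkC136

set_option autoImplicit false

/-!
All the checks of the certificates of the classes of subgroups.
-/

namespace Cfsg.Agent.Helper9.G42

theorem chk_all : ∀ i, i < 137 → chkAll cls (cls i) = true := by
  intro i hi
  interval_cases i
  · exact chk_0
  · exact chk_1
  · exact chk_2
  · exact chk_3
  · exact chk_4
  · exact chk_5
  · exact chk_6
  · exact chk_7
  · exact chk_8
  · exact chk_9
  · exact chk_10
  · exact chk_11
  · exact chk_12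
  · exact chk_13
  · exact chk_14
  · exact chk_15
  · exact chk_16
  · exact chk_17
  · exact chk_18
  · exact chk_19
  · exact chk_20
  · exact chk_21
  · exact chk_22
  · exact chk_23
  · exact chk_24
  · exact chk_25
  · exact chk_26
  · exact chk_27
  · exact chk_28
  · exact chk_29
  · exact chk_30
  · exact chk_31
  · exact chk_32
  · exact chk_33
  · exact chk_34
  · exact chk_35
  · exact chk_36
  · exact chk_37
  · exact chk_38
  · exact chk_39
  · exact chk_40
  · exact chk_41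
  · exact chk_42
  · exact chk_43
  · exact chk_44
  · exact chk_45
  · exact chk_46
  · exact chk_47
  · exact chk_48
  · exact chk_49
  · exact chk_50
  · exact chk_51
  · exact chk_52
  · exact chk_53
  · exact chk_54
  · exact chk_55
  · exact chk_56
  · exact chk_57
  · exact chk_58
  · exact chk_59
  · exact chk_60
  · exact chk_61
  · exact chk_62
  · exact chk_63
  · exact chk_64
  · exact chk_65
  · exact chk_66
  · exact chk_67
  · exact chk_68
  · exact chk_69
  · exact chk_70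
  · exact chk_71
  · exact chk_72
  · exact chk_73
  · exact chk_74
  · exact chk_75
  · exact chk_76
  · exact chk_77
  · exact chk_78
  · exact chk_79
  · exact chk_80
  · exact chk_81
  · exact chk_82
  · exact chk_83
  · exact chk_84
  · exact chk_85
  · exact chk_86
  · exact chk_87
  · exact chk_88
  · exact chk_89
  · exact chk_90
  · exact chk_91
  · exact chk_92
  · exact chk_93
  · exact chk_94
  · exact chk_95
  · exact chk_96
  · exact chk_97
  · exact chk_98
  · exact chk_99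
  · exact chk_100
  · exact chk_101
  · exact chk_102
  · exact chk_103
  · exact chk_104
  · exact chk_105
  · exact chk_106
  · exact chk_107
  · exact chk_108
  · exact chk_109
  · exact chk_110
  · exact chk_111
  · exact chk_112
  · exact chk_113
  · exact chk_114
  · exact chk_115
  · exact chk_116
  · exact chk_117
  · exact chk_118
  · exact chk_119
  · exact chk_120
  · exact chk_121
  · exact chk_122
  · exact chk_123
  · exact chk_124
  · exact chk_125
  · exact chk_126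
  · exact chk_127
  · exact chk_128
  · exact chk_129
  · exact chk_130
  · exact chk_131
  · exact chk_132
  · exact chk_133
  · exact chk_134
  · exact chk_135
  · exact chk_136

end Cfsg.Agent.Helper9.G42
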