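import Mathlib
import Cfsg.Prelude.Def_Solvable
import Cfsg.Agent.Helper9.G42.Sem

set_option autoImplicit false

/-!
The check of a nontrivial normal subgroup of prime power order of a class of subgroups, and what it proves.
-/

namespace Cfsg.Agent.Helper9.G42

open Cfsg.Agent.Helper9.J3

/-- the negation. -/
def notB (a : Bool) : Bool := Bool.rec true false a

theorem notB_true {a : Bool} (h : notB a = true) : a = false := by
  cases a
  · rfl
  · exact absurd h Bool.false_ne_true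

/-- the existential quantifier over a list. -/
def anyL {α : Type} (p : α → Bool) (l : List α) : Bool := List.rec false (fun a _ ih => orB (p a) ih) l

theorem anyL_true {α : Type} {p : α → Bool} {l : List α} (h : anyL p l = true) : ∃ a ∈ l, p a = true := by
  induction l with
  | nil => exact absurd h Bool.false_ne_true
  | cons b l ih =>
    rcases orB_true (show orB (p b) (anyL p l) = true from h) with h1 | h1
    · exact ⟨b, List.mem_cons_self, h1⟩
    · obtain ⟨a, ha, hp⟩ := ih h1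
      exact ⟨a, List.mem_cons_of_mem _ ha, hp⟩

/-- the power of an element. -/
def powF (l k : ℕ) : ℕ := Nat.rec 0 (fun _ ih => mulF l ih) k

theorem elt_powF {l : ℕ} (hl : l < nG) (k : ℕ) : powF l k < nG ∧ elt (powF l k) = elt l ^ k := by
  induction k with
  | zero =>
    refine ⟨by norm_num [powF], ?_⟩
    show elt 0 = _
    rw [elt_zero, pow_zero]
  | succ k ih =>
    show mulF l (powF l k) < nG ∧ elt (mulF l (powF l k)) = _
    refine ⟨mulF_lt hl ih.1, ?_⟩
    rw [elt_mulF hl ih.1, ih.2, pow_succ']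

/-- the exponent for a prime. -/
def expo (p : ℕ) : ℕ := Bool.rec p 16 (Nat.beq p 2)

/-- the check of the normal subgroup. -/
def chkRad (D : Cls) : Bool :=
  andB (orB (Nat.beq D.radp 2) (Nat.beq (Nat.mod D.radp 2) 1))
  (andB (memL 0 D.rad)
  (andB (anyL (fun l => Nat.blt 0 l) D.rad)
  (allL (fun l => andB (tb D.bm l) (andB (Nat.beq (powF l (expo D.radp)) 0) (andB (memL (invF l) D.rad)
    (andB (allL (fun l' => memL (mulF l l') D.rad) D.rad)
      (allL (fun s => andB (memL (mulF (mulF s.1 l) s.2) D.rad) (memL (mulF (mulF s.2 l) s.1) D.rad))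
        D.gens))))) D.rad)))

theorem chkRad_spec {D : Cls} (hg : chkGens D.gens = true) (hk : chkK D = true) (h : chkRad D = true) :
    (D.radp = 2 ∨ D.radp % 2 = 1) ∧ 0 ∈ D.rad ∧ (∃ l ∈ D.rad, 0 < l) ∧
    ∀ l ∈ D.rad, l < nG ∧ elt l ∈ K D ∧ elt l ^ (expo D.radp) = 1 ∧ invF l ∈ D.rad ∧
      (∀ l' ∈ D.rad, mulF l l' ∈ D.rad) ∧
      ∀ s ∈ D.gens, mulF (mulF s.1 l) s.2 ∈ D.rad ∧ mulF (mulF s.2 l) s.1 ∈ D.rad := by
  unfold chkRad at h
  obtain ⟨h1, h⟩ := andB_true h
  obtain ⟨h2, h⟩ := andB_true h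
  obtain ⟨h3, h4⟩ := andB_true h
  refine ⟨?_, memL_true h2, ?_, ?_⟩
  · rcases orB_true h1 with h5 | h5
    · exact Or.inl (Nat.eq_of_beq_eq_true h5)
    · exact Or.inr (Nat.eq_of_beq_eq_true h5)
  · obtain ⟨l, hl, hp⟩ := anyL_true h3
    exact ⟨l, hl, lt_of_blt hp⟩
  · intro l hl
    have h5 := allL_true h4 hl
    obtain ⟨a1, h5⟩ := andB_true h5
    obtain ⟨a2, h5⟩ := andB_true h5
    obtain ⟨a3, h5⟩ := andB_true h5
    obtain ⟨a4, a5⟩ := andB_true h5
    obtain ⟨b1, b2⟩ := mem_K_of_tb hg hk a1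
    refine ⟨b1, b2, ?_, memL_true a3, fun l' hl' => memL_true (allL_true a4 hl'), fun s hs => ?_⟩
    · rw [← (elt_powF b1 _).2, Nat.eq_of_beq_eq_true a2, elt_zero]
    · have h6 := andB_true (allL_true a5 hs)
      exact ⟨memL_true h6.1, memL_true h6.2⟩

theorem conj_mem_of_gens {S : Set G} {W : Subgroup G}
    (h : ∀ s ∈ S, ∀ w ∈ W, s * w * s⁻¹ ∈ W ∧ s⁻¹ * w * s ∈ W) :
    ∀ k ∈ Subgroup.closure S, ∀ w ∈ W, k * w * k⁻¹ ∈ W ∧ k⁻¹ * w * k ∈ W := by
  intro k hk
  induction hk using Subgroup.closure_induction with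
  | mem x hx => exact h x hx
  | one => intro w hw; simpa using hw
  | mul x y _ _ hx hy =>
    intro w hw
    constructor
    · have : x * y * w * (x * y)⁻¹ = x * (y * w * y⁻¹) * x⁻¹ := by group
      rw [this]
      exact (hx _ (hy w hw).1).1
    · have : (x * y)⁻¹ * w * (x * y) = y⁻¹ * (x⁻¹ * w * x) * y := by group
      rw [this]
      exact (hy _ (hx w hw).2).2
  | inv x _ hx =>
    intro w hw
    rw [inv_inv]
    exact ⟨(hx w hw).2, (hx w hw).1⟩

theorem rad_spec {D : Cls} (hg : chkGens D.gens = true) (hk : chkK D = true) (h : chkRad D = true) :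
    Cfsg.pCore 2 ↥(K D) ≠ ⊥ ∨ Cfsg.pPrimeCore 2 ↥(K D) ≠ ⊥ := by
  obtain ⟨hp, h0, ⟨l0, hl0, hl0'⟩, hall⟩ := chkRad_spec hg hk h
  let W : Subgroup G :=
    { carrier := {g | ∃ l ∈ D.rad, g = elt l}
      mul_mem' := by
        rintro _ _ ⟨a, ha, rfl⟩ ⟨b, hb, rfl⟩
        obtain ⟨a1, -, -, -, a5, -⟩ := hall a ha
        obtain ⟨b1, -⟩ := hall b hb
        exact ⟨mulF a b, a5 b hb, (elt_mulF a1 b1).symm⟩
      one_mem' := ⟨0, h0, elt_zero.symm⟩
      inv_mem' := by
        rintro _ ⟨a, ha, rfl⟩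
        obtain ⟨a1, -, -, a4, -⟩ := hall a ha
        exact ⟨invF a, a4, (elt_invF a1).symm⟩ }
  have hWK : W ≤ K D := by
    rintro _ ⟨a, ha, rfl⟩
    exact (hall a ha).2.1
  have hWpow : ∀ w ∈ W, w ^ (expo D.radp) = 1 := by
    rintro _ ⟨a, ha, rfl⟩
    exact (hall a ha).2.2.1
  have hconj : ∀ k ∈ K D, ∀ w ∈ W, k * w * k⁻¹ ∈ W ∧ k⁻¹ * w * k ∈ W := by
    apply conj_mem_of_gens
    rintro _ ⟨s, hs, rfl⟩ _ ⟨a, ha, rfl⟩
    obtain ⟨a1, -, -, -, -, a6⟩ := hall a ha
    obtain ⟨s1, s2, se⟩ := chkGens_spec hg hs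
    obtain ⟨c1, c2⟩ := a6 s hs
    constructor
    · refine ⟨_, c1, ?_⟩
      rw [elt_mulF (mulF_lt s1 a1) s2, elt_mulF s1 a1, se]
    · refine ⟨_, c2, ?_⟩
      rw [elt_mulF (mulF_lt s2 a1) s1, elt_mulF s2 a1, se]
  let N : Subgroup ↥(K D) := W.subgroupOf (K D)
  have hN : N.Normal := by
    constructor
    intro n hn g
    rw [Subgroup.mem_subgroupOf] at hn ⊢
    exact (hconj g.1 g.2 _ hn).1
  have hNbot : N ≠ ⊥ := by
    intro hb
    obtain ⟨a1, a2, -⟩ := hall l0 hl0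
    have h1 : (⟨elt l0, a2⟩ : ↥(K D)) ∈ N := by
      rw [Subgroup.mem_subgroupOf]
      exact ⟨l0, hl0, rfl⟩
    rw [hb, Subgroup.mem_bot] at h1
    have h2 : elt l0 = 1 := congrArg Subtype.val h1
    rw [← elt_zero] at h2
    have := elt_injective a1 (by norm_num) h2
    omega
  have hNpow : ∀ n : N, n ^ (expo D.radp) = 1 := by
    intro n
    apply Subtype.ext
    apply Subtype.ext
    have := hWpow _ (Subgroup.mem_subgroupOf.mp n.2)
    simpa using this
  rcases hp with hp | hp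
  · left
    intro hb
    apply hNbot
    rw [eq_bot_iff, ← hb]
    apply le_sSup
    refine ⟨hN, fun n => ⟨4, ?_⟩⟩
    have := hNpow n
    rw [hp] at this
    exact this
  · right
    intro hb
    apply hNbot
    rw [eq_bot_iff, ← hb]
    apply le_sSup
    refine ⟨hN, ?_⟩
    rw [Nat.coprime_comm, Nat.Prime.coprime_iff_not_dvd Nat.prime_two]
    intro hd
    have : Fact (Nat.Prime 2) := ⟨Nat.prime_two⟩
    obtain ⟨n, hn⟩ := exists_prime_orderOf_dvd_card' (G := N) 2 hd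
    have h1 := orderOf_dvd_of_pow_eq_one (hNpow n)
    rw [hn] at h1
    have h2 : expo D.radp = D.radp := by
      unfold expo
      have : Nat.beq D.radp 2 = false := by
        cases h3 : Nat.beq D.radp 2
        · rfl
        · have := Nat.eq_of_beq_eq_true h3
          omega
      rw [this]
    rw [h2] at h1
    omega

theorem pCore_bot_of_equiv {A B : Type*} [Group A] [Group B] (e : A ≃* B) (h : Cfsg.pCore 2 A = ⊥) :
    Cfsg.pCore 2 B = ⊥ := by
  rw [eq_bot_iff]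
  apply sSup_le
  rintro N ⟨hN, hp⟩
  have h1 : N.comap e.toMonoidHom ≤ Cfsg.pCore 2 A :=
    le_sSup ⟨hN.comap _, hp.comap_of_injective _ e.injective⟩
  rw [h] at h1
  intro x hx
  have h2 : e.symm x ∈ N.comap e.toMonoidHom := by
    simp [Subgroup.mem_comap, hx]
  have h3 := h1 h2
  rw [Subgroup.mem_bot] at h3 ⊢
  simpa using congrArg e h3

theorem pPrimeCore_bot_of_equiv {A B : Type*} [Group A] [Group B] (e : A ≃* B) (h : Cfsg.pPrimeCore 2 A = ⊥) :
    Cfsg.pPrimeCore 2 B = ⊥ := by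
  rw [eq_bot_iff]
  apply sSup_le
  rintro N ⟨hN, hp⟩
  have h1 : N.comap e.toMonoidHom ≤ Cfsg.pPrimeCore 2 A := by
    apply le_sSup
    refine ⟨hN.comap _, ?_⟩
    exact Nat.Coprime.coprime_dvd_left (Subgroup.card_comap_dvd_of_injective N e.toMonoidHom e.injective) hp
  rw [h] at h1
  intro x hx
  have h2 : e.symm x ∈ N.comap e.toMonoidHom := by
    simp [Subgroup.mem_comap, hx]
  have h3 := h1 h2
  rw [Subgroup.mem_bot] at h3 ⊢
  simpa using congrArg e h3

end Cfsg.Agent.Helper9.G42
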