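import Mathlib
import Cfsg.Agent.Helper9.G42.Sem

set_option autoImplicit false

/-!
What the checks of the certificates prove, continued: the reduction to the representatives, the words, and the
theorem that every subgroup is a conjugate of a listed one.
-/

namespace Cfsg.Agent.Helper9.G42

open Cfsg.Agent.Helper9.J3

theorem move4_cases (s1 s2 n m : ℕ) :
    move4 s1 s2 n m = mulF s1 n ∨ move4 s1 s2 n m = mulF s2 n ∨ move4 s1 s2 n m = mulF n s1 ∨
      move4 s1 s2 n m = mulF n s2 := by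
  rcases m with _ | _ | _ | m
  · exact Or.inl rfl
  · exact Or.inr (Or.inl rfl)
  · exact Or.inr (Or.inr (Or.inl rfl))
  · exact Or.inr (Or.inr (Or.inr rfl))

theorem move2_cases (c1 c2 n m : ℕ) :
    move2 c1 c2 n m = mulF (mulF c1 n) c2 ∨ move2 c1 c2 n m = mulF (mulF c2 n) c1 := by
  rcases m with _ | m
  · exact Or.inl rfl
  · exact Or.inr rfl

theorem move_cases (D : Cls) (d n : ℕ) :
    (∃ i, move D d n = mulF (nthP D.gens i).1 n ∨ move D d n = mulF (nthP D.gens i).2 n ∨
      move D d n = mulF n (nthP D.gens i).1 ∨ move D d n = mulF n (nthP D.gens i).2) ∨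
    (∃ i, move D d n = mulF (mulF (nthP D.norm i).1 n) (nthP D.norm i).2 ∨
      move D d n = mulF (mulF (nthP D.norm i).2 n) (nthP D.norm i).1) := by
  unfold move
  simp only [sapp_eq]
  cases Nat.blt d (Nat.mul 4 (lenL D.gens))
  · right
    exact ⟨_, move2_cases _ _ _ _⟩
  · left
    exact ⟨_, move4_cases _ _ _ _⟩

theorem move_spec {cls : ℕ → Cls} {D : Cls} (hg : chkGens D.gens = true) (hng : chkGens D.norm = true)
    (hk : chkK D = true) (hn : chkNorm D = true) (d : ℕ) {n : ℕ} (hn' : n < nG) :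
    move D d n < nG ∧ (P cls D (elt (move D d n)) → P cls D (elt n)) := by
  rcases move_cases D d n with ⟨i, h | h | h | h⟩ | ⟨i, h | h⟩
  · obtain ⟨a, b, c, -⟩ := nthP_spec hg i
    rw [h]
    refine ⟨mulF_lt a hn', fun hP => ?_⟩
    rw [elt_mulF a hn'] at hP
    exact P_of_mul_left (nthP_mem_K i) hP
  · obtain ⟨a, b, c, -⟩ := nthP_spec hg i
    rw [h]
    refine ⟨mulF_lt b hn', fun hP => ?_⟩
    rw [elt_mulF b hn', c] at hP
    exact P_of_mul_left (Subgroup.inv_mem _ (nthP_mem_K i)) hP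
  · obtain ⟨a, b, c, -⟩ := nthP_spec hg i
    rw [h]
    refine ⟨mulF_lt hn' a, fun hP => ?_⟩
    rw [elt_mulF hn' a] at hP
    exact P_of_mul_right (nthP_mem_K i) hP
  · obtain ⟨a, b, c, -⟩ := nthP_spec hg i
    rw [h]
    refine ⟨mulF_lt hn' b, fun hP => ?_⟩
    rw [elt_mulF hn' b, c] at hP
    exact P_of_mul_right (Subgroup.inv_mem _ (nthP_mem_K i)) hP
  · obtain ⟨a, b, c, -⟩ := nthP_spec hng i
    rw [h]
    refine ⟨mulF_lt (mulF_lt a hn') b, fun hP => ?_⟩
    rw [elt_mulF (mulF_lt a hn') b, elt_mulF a hn', c] at hP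
    exact P_of_conj (nthP_Nz hg hng hk hn i) hP
  · obtain ⟨a, b, c, -⟩ := nthP_spec hng i
    rw [h]
    refine ⟨mulF_lt (mulF_lt b hn') a, fun hP => ?_⟩
    rw [elt_mulF (mulF_lt b hn') a, elt_mulF b hn', c] at hP
    exact P_of_conj (Nz_inv (nthP_Nz hg hng hk hn i)) (g := elt n) (by rwa [inv_inv])

theorem red_spec {cls : ℕ → Cls} {D : Cls} (hg : chkGens D.gens = true) (hng : chkGens D.norm = true)
    (hk : chkK D = true) (hn : chkNorm D = true) (hr : chkRed D = true)
    (ht : ∀ n, n < nG → (tb D.bm n = true ∨ tb D.rb n = true) → P cls D (elt n)) :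
    ∀ n, n < nG → P cls D (elt n) := by
  have key : ∀ r n, n < nG → Nat.shiftRight (lkF 10 1023 D.mr n) 5 = r → P cls D (elt n) := by
    intro r
    induction r using Nat.strong_induction_on with
    | _ r ih =>
      intro n hn' hr'
      have h1 := allB_true hr hn'
      simp only [sapp_eq] at h1
      cases hd : Nat.beq (Nat.land (lkF 10 1023 D.mr n) 31) 31
      · rw [hd] at h1
        have h2 := andB_true h1
        have h3 := lt_of_blt h2.1
        have h4 := lt_of_blt h2.2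
        rw [hr'] at h4
        exact (move_spec hg hng hk hn _ hn').2 (ih _ h4 _ h3 rfl)
      · rw [hd] at h1
        exact ht n hn' (orB_true h1)
  intro n hn'
  exact key _ n hn' rfl

theorem letV_spec {D : Cls} (hg : chkGens D.gens = true) (hk : chkK D = true) {r ri : ℕ} (hr : r < nG)
    (hri : ri < nG) (he : elt ri = (elt r)⁻¹) {l : ℕ} (hl : orB (tb D.bm l) (Nat.ble 20160 l) = true) :
    letV r ri l < nG ∧ elt (letV r ri l) ∈ K D ⊔ Subgroup.zpowers (elt r) := by
  unfold letV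
  cases h1 : Nat.blt l 20160
  · cases h2 : Nat.beq l 20160
    · refine ⟨hri, ?_⟩
      show elt ri ∈ _
      rw [he]
      exact Subgroup.mem_sup_right (Subgroup.inv_mem _ (Subgroup.mem_zpowers _))
    · exact ⟨hr, Subgroup.mem_sup_right (Subgroup.mem_zpowers _)⟩
  · have hl' : l < 20160 := lt_of_blt h1
    rcases orB_true hl with h3 | h3
    · obtain ⟨a, b⟩ := mem_K_of_tb hg hk h3
      exact ⟨a, Subgroup.mem_sup_left b⟩
    · exfalso
      have := Nat.le_of_ble_eq_true h3
      omega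

theorem wordV_spec {D : Cls} (hg : chkGens D.gens = true) (hk : chkK D = true) {r ri : ℕ} (hr : r < nG)
    (hri : ri < nG) (he : elt ri = (elt r)⁻¹) (w : List ℕ) (hw : wordOk D w = true) :
    wordV r ri w < nG ∧ elt (wordV r ri w) ∈ K D ⊔ Subgroup.zpowers (elt r) := by
  induction w with
  | nil =>
    refine ⟨by norm_num [wordV], ?_⟩
    show elt 0 ∈ _
    rw [elt_zero]
    exact Subgroup.one_mem _
  | cons l w ih =>
    have h1 := andB_true (show andB (orB (tb D.bm l) (Nat.ble 20160 l)) (wordOk D w) = true from hw)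
    obtain ⟨a, b⟩ := letV_spec hg hk hr hri he h1.1
    obtain ⟨c, d⟩ := ih h1.2
    show mulF (letV r ri l) (wordV r ri w) < nG ∧ elt (mulF (letV r ri l) (wordV r ri w)) ∈ _
    refine ⟨mulF_lt a c, ?_⟩
    rw [elt_mulF a c]
    exact Subgroup.mul_mem _ b d

theorem chkWords_spec {D : Cls} {r ri x xi : ℕ} (gs : List (ℕ × ℕ)) (ws : List (List ℕ))
    (h : chkWords D r ri x xi gs ws = true) {t : ℕ × ℕ} (ht : t ∈ gs) :
    ∃ w, wordOk D w = true ∧ wordV r ri w = mulF (mulF x t.1) xi := by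
  induction gs generalizing ws with
  | nil => exact absurd ht List.not_mem_nil
  | cons t' gs ih =>
    cases ws with
    | nil => exact absurd h Bool.false_ne_true
    | cons w ws' =>
      have h1 := andB_true (show andB (wordOk D w) (andB (Nat.beq (wordV r ri w) (mulF (mulF x t'.1) xi))
        (chkWords D r ri x xi gs ws')) = true from h)
      have h2 := andB_true h1.2
      rcases List.mem_cons.mp ht with rfl | h3
      · exact ⟨w, h1.1, Nat.eq_of_beq_eq_true h2.1⟩
      · exact ih ws' h2.2 h3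

theorem chkAll_spec {cls : ℕ → Cls} {D : Cls} (h : chkAll cls D = true) :
    chkGens D.gens = true ∧ chkGens D.norm = true ∧ chkK D = true ∧ chkNorm D = true ∧ chkRed D = true ∧
      chkClo cls D = true := by
  obtain ⟨h1, h⟩ := andB_true h
  obtain ⟨h2, h⟩ := andB_true h
  obtain ⟨h3, h⟩ := andB_true h
  obtain ⟨h4, h⟩ := andB_true h
  obtain ⟨h5, h6⟩ := andB_true h
  exact ⟨h1, h2, h3, h4, h5, h6⟩

theorem inv_of_mulF {a b : ℕ} (ha : a < nG) (hb : b < nG) (h : Nat.beq (mulF a b) 0 = true) :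
    elt b = (elt a)⁻¹ := by
  apply eq_inv_of_mul_eq_one_right
  rw [← elt_mulF ha hb, Nat.eq_of_beq_eq_true h, elt_zero]

theorem rep_spec {cls : ℕ → Cls} (hall : ∀ i, i < 137 → chkAll cls (cls i) = true) {D : Cls}
    (hg : chkGens D.gens = true) (hk : chkK D = true) {R : Rep} (h : chkRep cls D R = true) :
    P cls D (elt R.r) := by
  unfold chkRep at h
  obtain ⟨h1, h⟩ := andB_true h
  obtain ⟨h2, h⟩ := andB_true h
  obtain ⟨h3, h⟩ := andB_true h
  obtain ⟨h4, h⟩ := andB_true h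
  obtain ⟨h5, h⟩ := andB_true h
  obtain ⟨h6, h⟩ := andB_true h
  obtain ⟨h7, h⟩ := andB_true h
  obtain ⟨h8, h⟩ := andB_true h
  obtain ⟨h9, h10⟩ := andB_true h
  have hr := lt_of_blt h1
  have hri := lt_of_blt h2
  have hx := lt_of_blt h3
  have hxi := lt_of_blt h4
  have e1 : elt R.ri = (elt R.r)⁻¹ := inv_of_mulF hr hri h5
  have e2 : elt R.xi = (elt R.x)⁻¹ := inv_of_mulF hx hxi h6
  have hj := lt_of_blt h7
  obtain ⟨jg, -, jk, -, -, -⟩ := chkAll_spec (hall _ hj)
  refine ⟨R.j, hj, elt R.x, ?_⟩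
  apply le_antisymm
  · apply sup_le
    · show Subgroup.closure (gensG D) ≤ _
      rw [Subgroup.closure_le]
      rintro _ ⟨s, hs, rfl⟩
      obtain ⟨-, b⟩ := mem_K_of_tb jg jk (allL_true h8 hs)
      obtain ⟨s1, -, -⟩ := chkGens_spec hg hs
      rw [elt_mulF (mulF_lt hxi s1) hx, elt_mulF hxi s1, e2] at b
      refine ⟨_, b, ?_⟩
      simp [MulAut.conj_apply, mul_assoc]
    · rw [Subgroup.zpowers_le]
      obtain ⟨-, b⟩ := mem_K_of_tb jg jk h9
      rw [elt_mulF (mulF_lt hxi hr) hx, elt_mulF hxi hr, e2] at b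
      refine ⟨_, b, ?_⟩
      simp [MulAut.conj_apply, mul_assoc]
  · rw [Subgroup.map_le_iff_le_comap]
    show Subgroup.closure (gensG (cls R.j)) ≤ _
    rw [Subgroup.closure_le]
    rintro _ ⟨t, ht, rfl⟩
    obtain ⟨w, hw1, hw2⟩ := chkWords_spec _ _ h10 ht
    obtain ⟨-, b⟩ := wordV_spec hg hk hr hri e1 w hw1
    obtain ⟨t1, -, -⟩ := chkGens_spec jg ht
    rw [hw2, elt_mulF (mulF_lt hx t1) hxi, elt_mulF hx t1, e2] at b
    exact b

theorem testBit_maskR (l : List Rep) (n : ℕ) (h : (maskR l).testBit n = true) : ∃ R ∈ l, R.r = n := by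
  induction l with
  | nil =>
    have : maskR [] = 0 := rfl
    simp [this] at h
  | cons R l ih =>
    have : maskR (R :: l) = (1 <<< R.r) ||| maskR l := rfl
    rw [this, Nat.testBit_or, Bool.or_eq_true] at h
    rcases h with h | h
    · rw [Nat.one_shiftLeft, Nat.testBit_two_pow] at h
      exact ⟨R, List.mem_cons_self, of_decide_eq_true h⟩
    · obtain ⟨R', h1, h2⟩ := ih h
      exact ⟨R', List.mem_cons_of_mem _ h1, h2⟩

theorem P_all {cls : ℕ → Cls} (hall : ∀ i, i < 137 → chkAll cls (cls i) = true) {i : ℕ} (hi : i < 137) (g : G) :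
    P cls (cls i) g := by
  obtain ⟨hg, hng, hk, hn, hr, hclo⟩ := chkAll_spec (hall _ hi)
  rw [← elt_num g]
  apply red_spec hg hng hk hn hr _ _ (num_lt g)
  intro n hn' ht
  rcases ht with ht | ht
  · obtain ⟨-, hm⟩ := mem_K_of_tb hg hk ht
    refine ⟨i, hi, 1, ?_⟩
    rw [map_conj_one]
    exact sup_eq_left.mpr (Subgroup.zpowers_le.mpr hm)
  · obtain ⟨hc1, hc2⟩ := andB_true hclo
    rw [tb_eq, Nat.eq_of_beq_eq_true hc1] at ht
    obtain ⟨R, hR, rfl⟩ := testBit_maskR _ _ ht
    exact rep_spec hall hg hk (allL_true hc2 hR)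

theorem K_eq_bot_of_nil {D : Cls} (h : D.gens = []) : K D = ⊥ := by
  simp [K, gensG, h]

/-- every subgroup is a conjugate of a listed one. -/
theorem classify {cls : ℕ → Cls} (hall : ∀ i, i < 137 → chkAll cls (cls i) = true) (h0 : (cls 0).gens = [])
    (H : Subgroup G) : ∃ j, j < 137 ∧ ∃ y : G, H = (K (cls j)).map (MulAut.conj y).toMonoidHom := by
  have key : ∀ S : Finset G, ∃ j, j < 137 ∧ ∃ y : G,
      Subgroup.closure (S : Set G) = (K (cls j)).map (MulAut.conj y).toMonoidHom := by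
    intro S
    induction S using Finset.induction_on with
    | empty =>
      refine ⟨0, by norm_num, 1, ?_⟩
      rw [map_conj_one, K_eq_bot_of_nil h0, Finset.coe_empty, Subgroup.closure_empty]
    | insert g S _ ih =>
      obtain ⟨j, hj, y, hy⟩ := ih
      obtain ⟨j', hj', y', hy'⟩ := P_all hall hj (y⁻¹ * g * y)
      refine ⟨j', hj', y * y', ?_⟩
      rw [Finset.coe_insert, Set.insert_eq, Subgroup.closure_union, ← Subgroup.zpowers_eq_closure, sup_comm, hy,
        ← map_conj_map_conj, ← hy', map_conj_sup_zpowers]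
      congr 2
      group
  obtain ⟨j, hj, y, hy⟩ := key (Set.toFinite (H : Set G)).toFinset
  refine ⟨j, hj, y, ?_⟩
  rw [← hy, Set.Finite.coe_toFinset, Subgroup.closure_eq]

end Cfsg.Agent.Helper9.G42
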