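import Mathlib
import Cfsg.Agent.Helper9.G42.Card
import Cfsg.Agent.Helper9.G42.Rad
import Cfsg.Agent.Helper9.G42.Sem2

set_option autoImplicit false

/-!
The checks that identify a class of subgroups with an alternating group, a symmetric group or the general linear
group of degree three over the field with two elements, and what they prove.
-/

namespace Cfsg.Agent.Helper9.G42

open Cfsg.Agent.Helper9.J3

theorem exists_inj_of_core {A : Type*} [Group A] [Finite A] (n : ℕ) (L : Subgroup A) (hidx : L.index = n)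
    (hcore : L.normalCore = ⊥) : ∃ ψ : A →* Equiv.Perm (Fin n), Function.Injective ψ := by
  classical
  have hker : (MulAction.toPermHom A (A ⧸ L)).ker = ⊥ := by
    rw [← Subgroup.normalCore_eq_ker, hcore]
  have hinj : Function.Injective (MulAction.toPermHom A (A ⧸ L)) := (MonoidHom.ker_eq_bot_iff _).mp hker
  have hq : Nat.card (A ⧸ L) = n := by rw [← Subgroup.index_eq_card, hidx]
  exact ⟨(Equiv.permCongrHom (Finite.equivFinOfCardEq hq)).toMonoidHom.comp (MulAction.toPermHom A (A ⧸ L)),
    fun a b hab => hinj ((Equiv.permCongrHom (Finite.equivFinOfCardEq hq)).injective hab)⟩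

theorem equiv_perm_of_inj {A : Type*} [Group A] [Finite A] (n : ℕ) (ψ : A →* Equiv.Perm (Fin n))
    (hψ : Function.Injective ψ) (hcard : Nat.card A = n.factorial) : Nonempty (A ≃* Equiv.Perm (Fin n)) := by
  have hb : Function.Bijective ψ := by
    rw [Nat.bijective_iff_injective_and_card]
    exact ⟨hψ, by rw [hcard, Nat.card_perm, Nat.card_fin]⟩
  exact ⟨MulEquiv.ofBijective ψ hb⟩

theorem equiv_alt_of_inj {A : Type*} [Group A] [Finite A] (n : ℕ) (ψ : A →* Equiv.Perm (Fin n))
    (hψ : Function.Injective ψ) (hcard : 2 * Nat.card A = n.factorial) :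
    Nonempty (A ≃* alternatingGroup (Fin n)) := by
  have hrange : ψ.range = alternatingGroup (Fin n) := by
    apply Equiv.Perm.eq_alternatingGroup_of_index_eq_two
    have h1 := ψ.range.card_mul_index
    have h2 : Nat.card ψ.range = Nat.card A := (Nat.card_congr (MonoidHom.ofInjective hψ).toEquiv).symm
    have h3 : Nat.card (Equiv.Perm (Fin n)) = n.factorial := by rw [Nat.card_perm, Nat.card_fin]
    rw [h2, h3, ← hcard] at h1
    have hpos : 0 < Nat.card A := Nat.card_pos
    have : Nat.card A * ψ.range.index = Nat.card A * 2 := by rw [h1]; ring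
    exact Nat.eq_of_mul_eq_mul_left hpos this
  exact ⟨(MonoidHom.ofInjective hψ).trans (MulEquiv.subgroupCongr hrange)⟩

/-- the check of a subgroup with trivial core. -/
def chkCore (D DL : Cls) (ks : List (ℕ × ℕ)) : Bool :=
  andB (allL (fun t => andB (tb D.bm t.1) (andB (tb D.bm t.2) (Nat.beq (mulF t.1 t.2) 0))) ks)
  (andB (allL (fun s => tb D.bm s.1) DL.gens)
    (allB (fun n => sapp (fun l => orB (Nat.beq l 0)
      (anyL (fun t => notB (tb DL.bm (mulF (mulF t.1 l) t.2))) ks)) (elA DL n)) DL.nel))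

theorem core_spec {D DL : Cls} {ks : List (ℕ × ℕ)} (hg : chkGens D.gens = true) (hk : chkK D = true)
    (hg' : chkGens DL.gens = true) (hk' : chkK DL = true) (hc' : chkCard DL = true)
    (h : chkCore D DL ks = true) :
    K DL ≤ K D ∧ ((K DL).subgroupOf (K D)).normalCore = ⊥ := by
  obtain ⟨h1, h⟩ := andB_true h
  obtain ⟨h2, h3⟩ := andB_true h
  have hle : K DL ≤ K D := by
    show Subgroup.closure (gensG DL) ≤ _
    rw [Subgroup.closure_le]
    rintro _ ⟨s, hs, rfl⟩
    exact (mem_K_of_tb hg hk (allL_true h2 hs)).2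
  refine ⟨hle, ?_⟩
  rw [eq_bot_iff]
  intro x hx
  rw [Subgroup.mem_bot]
  by_contra hx1
  have hx' : ∀ b : ↥(K D), b * x * b⁻¹ ∈ (K DL).subgroupOf (K D) := hx
  have hxL : (x : G) ∈ K DL := by
    have := hx' 1
    rw [Subgroup.mem_subgroupOf] at this
    simpa using this
  have hbit := (mem_K_iff hg' hk' hc' _).mp hxL
  have hbm : DL.bm = maskF (elA DL) DL.nel := Nat.eq_of_beq_eq_true (andB_true hk').1
  have hbit' := hbit
  rw [tb_eq, hbm, testBit_maskF] at hbit'
  obtain ⟨n, hn, hnx⟩ := of_decide_eq_true hbit'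
  have h4 := allB_true h3 hn
  simp only [sapp_eq] at h4
  rw [hnx] at h4
  rcases orB_true h4 with h5 | h5
  · apply hx1
    apply Subtype.ext
    have : num (x : G) = 0 := Nat.eq_of_beq_eq_true h5
    have h6 := elt_num (x : G)
    rw [this, elt_zero] at h6
    exact h6.symm
  · obtain ⟨t, ht, h6⟩ := anyL_true h5
    have h7 := notB_true h6
    obtain ⟨t1, h8⟩ := andB_true (allL_true h1 ht)
    obtain ⟨t2, t3⟩ := andB_true h8
    obtain ⟨a1, a2⟩ := mem_K_of_tb hg hk t1
    obtain ⟨b1, b2⟩ := mem_K_of_tb hg hk t2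
    have e : elt t.2 = (elt t.1)⁻¹ := inv_of_mulF a1 b1 t3
    have h9 := hx' ⟨elt t.1, a2⟩
    rw [Subgroup.mem_subgroupOf] at h9
    have h10 : ((⟨elt t.1, a2⟩ * x * (⟨elt t.1, a2⟩ : ↥(K D))⁻¹ : ↥(K D)) : G) =
        elt (mulF (mulF t.1 (num (x : G))) t.2) := by
      rw [elt_mulF (mulF_lt a1 (num_lt _)) b1, elt_mulF a1 (num_lt _), elt_num, e]
      rfl
    rw [h10] at h9
    have h11 := (mem_K_iff hg' hk' hc' _).mp h9
    rw [num_elt (mulF_lt (mulF_lt a1 (num_lt _)) b1), h7] at h11
    exact absurd h11 Bool.false_ne_true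

theorem perm_inj {D DL : Cls} {ks : List (ℕ × ℕ)} (hg : chkGens D.gens = true) (hk : chkK D = true)
    (hc : chkCard D = true) (hg' : chkGens DL.gens = true) (hk' : chkK DL = true) (hc' : chkCard DL = true)
    (h : chkCore D DL ks = true) (n : ℕ) (hn : D.nel = n * DL.nel) (hpos : 0 < DL.nel) :
    ∃ ψ : ↥(K D) →* Equiv.Perm (Fin n), Function.Injective ψ := by
  obtain ⟨hle, hcore⟩ := core_spec hg hk hg' hk' hc' h
  apply exists_inj_of_core n _ _ hcore
  have h1 := Subgroup.card_mul_index ((K DL).subgroupOf (K D))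
  have h2 : Nat.card ↥((K DL).subgroupOf (K D)) = DL.nel := by
    rw [Nat.card_congr (Subgroup.subgroupOfEquivOfLe hle).toEquiv, card_K hg' hk' hc']
  rw [h2, card_K hg hk hc, hn, mul_comm n] at h1
  exact Nat.eq_of_mul_eq_mul_left hpos h1

theorem alt_iso {D DL : Cls} {ks : List (ℕ × ℕ)} (hg : chkGens D.gens = true) (hk : chkK D = true)
    (hc : chkCard D = true) (hg' : chkGens DL.gens = true) (hk' : chkK DL = true) (hc' : chkCard DL = true)
    (h : chkCore D DL ks = true) (n : ℕ) (hn : D.nel = n * DL.nel) (hpos : 0 < DL.nel)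
    (hcard : 2 * D.nel = n.factorial) : Nonempty (↥(K D) ≃* alternatingGroup (Fin n)) := by
  obtain ⟨ψ, hψ⟩ := perm_inj hg hk hc hg' hk' hc' h n hn hpos
  exact equiv_alt_of_inj n ψ hψ (by rw [card_K hg hk hc, hcard])

theorem sym_iso {D DL : Cls} {ks : List (ℕ × ℕ)} (hg : chkGens D.gens = true) (hk : chkK D = true)
    (hc : chkCard D = true) (hg' : chkGens DL.gens = true) (hk' : chkK DL = true) (hc' : chkCard DL = true)
    (h : chkCore D DL ks = true) (n : ℕ) (hn : D.nel = n * DL.nel) (hpos : 0 < DL.nel)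
    (hcard : D.nel = n.factorial) : Nonempty (↥(K D) ≃* Equiv.Perm (Fin n)) := by
  obtain ⟨ψ, hψ⟩ := perm_inj hg hk hc hg' hk' hc' h n hn hpos
  exact equiv_perm_of_inj n ψ hψ (by rw [card_K hg hk hc, hcard])

/-- the upper left block of a matrix. -/
def blk (M : Matrix (Fin 4) (Fin 4) (ZMod 2)) : Matrix (Fin 3) (Fin 3) (ZMod 2) :=
  M.submatrix Fin.castSucc Fin.castSucc

theorem blk_one : blk 1 = 1 := by
  ext i j
  simp [blk, Matrix.one_apply]

theorem blk_mul {M N : Matrix (Fin 4) (Fin 4) (ZMod 2)}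
    (h : (∀ i : Fin 3, M i.castSucc 3 = 0) ∨ (∀ j : Fin 3, N 3 j.castSucc = 0)) :
    blk (M * N) = blk M * blk N := by
  ext i j
  have h3 : (Fin.last 3 : Fin 4) = 3 := rfl
  simp only [blk, Matrix.submatrix_apply, Matrix.mul_apply]
  rw [Fin.sum_univ_castSucc, h3]
  rcases h with h | h
  · rw [h i, zero_mul, add_zero]
  · rw [h j, mul_zero, add_zero]

/-- the check of the shape. -/
def shapeOk (sh : Bool) (code : ℕ) : Bool :=
  Bool.rec (andB (notB (tb code 3)) (andB (notB (tb code 7)) (notB (tb code 11))))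
    (andB (notB (tb code 12)) (andB (notB (tb code 13)) (notB (tb code 14)))) sh

/-- the check that the block is not the identity. -/
def blkNe (code : ℕ) : Bool :=
  orB (notB (tb code 0)) (orB (tb code 1) (orB (tb code 2) (orB (tb code 4) (orB (notB (tb code 5))
    (orB (tb code 6) (orB (tb code 8) (orB (tb code 9) (notB (tb code 10)))))))))

/-- the check of the block map. -/
def chkBlk (D : Cls) (cn cin : ℕ) (sh : Bool) : Bool :=
  andB (Nat.blt cn 20160) (andB (Nat.blt cin 20160) (andB (Nat.beq (mulF cn cin) 0)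
    (allB (fun n => sapp (fun e => sapp (fun code => andB (shapeOk sh code) (orB (Nat.beq e 0) (blkNe code)))
      (matOf (mulF (mulF cn e) cin))) (elA D n)) D.nel)))

theorem dec_apply (c : ℕ) (i j : Fin 4) : dec c i j = if tb c (4 * i.val + j.val) = true then 1 else 0 := by
  rw [tb_eq]
  rfl

theorem shape_spec {sh : Bool} {c : ℕ} (h : shapeOk sh c = true) :
    (sh = false ∧ ∀ i : Fin 3, dec c i.castSucc 3 = 0) ∨ (sh = true ∧ ∀ j : Fin 3, dec c 3 j.castSucc = 0) := by
  cases sh
  · left
    refine ⟨rfl, ?_⟩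
    obtain ⟨h1, h⟩ := andB_true (show andB (notB (tb c 3)) (andB (notB (tb c 7)) (notB (tb c 11))) = true from h)
    obtain ⟨h2, h3⟩ := andB_true h
    have a1 := notB_true h1
    have a2 := notB_true h2
    have a3 := notB_true h3
    intro i
    fin_cases i
    · rw [dec_apply]
      show (if tb c 3 = true then (1 : ZMod 2) else 0) = 0
      rw [a1]; rfl
    · rw [dec_apply]
      show (if tb c 7 = true then (1 : ZMod 2) else 0) = 0
      rw [a2]; rfl
    · rw [dec_apply]
      show (if tb c 11 = true then (1 : ZMod 2) else 0) = 0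
      rw [a3]; rfl
  · right
    refine ⟨rfl, ?_⟩
    obtain ⟨h1, h⟩ := andB_true (show andB (notB (tb c 12)) (andB (notB (tb c 13)) (notB (tb c 14))) = true from h)
    obtain ⟨h2, h3⟩ := andB_true h
    have a1 := notB_true h1
    have a2 := notB_true h2
    have a3 := notB_true h3
    intro j
    fin_cases j
    · rw [dec_apply]
      show (if tb c 12 = true then (1 : ZMod 2) else 0) = 0
      rw [a1]; rfl
    · rw [dec_apply]
      show (if tb c 13 = true then (1 : ZMod 2) else 0) = 0
      rw [a2]; rfl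
    · rw [dec_apply]
      show (if tb c 14 = true then (1 : ZMod 2) else 0) = 0
      rw [a3]; rfl

theorem blkNe_spec {c : ℕ} (h : blkNe c = true) : blk (dec c) ≠ 1 := by
  intro hb
  have key : ∀ i j : Fin 3, (if tb c (4 * i.val + j.val) = true then (1 : ZMod 2) else 0) =
      (1 : Matrix (Fin 3) (Fin 3) (ZMod 2)) i j := by
    intro i j
    have := congrFun (congrFun hb i) j
    rw [← this]
    show _ = dec c i.castSucc j.castSucc
    rw [dec_apply]
    rfl
  have k00 := key 0 0
  have k01 := key 0 1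
  have k02 := key 0 2
  have k10 := key 1 0
  have k11 := key 1 1
  have k12 := key 1 2
  have k20 := key 2 0
  have k21 := key 2 1
  have k22 := key 2 2
  unfold blkNe at h
  rcases orB_true h with h | h
  · rw [show (4 * (0 : Fin 3).val + (0 : Fin 3).val) = 0 from rfl, notB_true h] at k00; revert k00; decide
  rcases orB_true h with h | h
  · rw [show (4 * (0 : Fin 3).val + (1 : Fin 3).val) = 1 from rfl, h] at k01; revert k01; decide
  rcases orB_true h with h | h
  · rw [show (4 * (0 : Fin 3).val + (2 : Fin 3).val) = 2 from rfl, h] at k02; revert k02; decide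
  rcases orB_true h with h | h
  · rw [show (4 * (1 : Fin 3).val + (0 : Fin 3).val) = 4 from rfl, h] at k10; revert k10; decide
  rcases orB_true h with h | h
  · rw [show (4 * (1 : Fin 3).val + (1 : Fin 3).val) = 5 from rfl, notB_true h] at k11; revert k11; decide
  rcases orB_true h with h | h
  · rw [show (4 * (1 : Fin 3).val + (2 : Fin 3).val) = 6 from rfl, h] at k12; revert k12; decide
  rcases orB_true h with h | h
  · rw [show (4 * (2 : Fin 3).val + (0 : Fin 3).val) = 8 from rfl, h] at k20; revert k20; decide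
  rcases orB_true h with h | h
  · rw [show (4 * (2 : Fin 3).val + (1 : Fin 3).val) = 9 from rfl, h] at k21; revert k21; decide
  · rw [show (4 * (2 : Fin 3).val + (2 : Fin 3).val) = 10 from rfl, notB_true h] at k22; revert k22; decide

theorem card_GL3 : Nat.card (GL (Fin 3) (ZMod 2)) = 168 := by
  rw [Matrix.card_GL_field, ZMod.card, Fin.prod_univ_three]
  rfl

theorem blk_iso {D : Cls} {cn cin : ℕ} {sh : Bool} (hg : chkGens D.gens = true) (hk : chkK D = true)
    (hc : chkCard D = true) (hn : D.nel = 168) (h : chkBlk D cn cin sh = true) :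
    Nonempty (↥(K D) ≃* GL (Fin 3) (ZMod 2)) := by
  obtain ⟨h1, h⟩ := andB_true h
  obtain ⟨h2, h⟩ := andB_true h
  obtain ⟨h3, h4⟩ := andB_true h
  have c1 := lt_of_blt h1
  have c2 := lt_of_blt h2
  have ce : elt cin = (elt cn)⁻¹ := inv_of_mulF c1 c2 h3
  have hbm : D.bm = maskF (elA D) D.nel := Nat.eq_of_beq_eq_true (andB_true hk).1
  have key : ∀ g : G, g ∈ K D → shapeOk sh (matOf (mulF (mulF cn (num g)) cin)) = true ∧
      (g ≠ 1 → blkNe (matOf (mulF (mulF cn (num g)) cin)) = true) ∧
      ((elt cn * g * (elt cn)⁻¹ : G) : Matrix (Fin 4) (Fin 4) (ZMod 2)) = dec (matOf (mulF (mulF cn (num g)) cin)) := by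
    intro g hgK
    have hbit := (mem_K_iff hg hk hc g).mp hgK
    rw [tb_eq, hbm, testBit_maskF] at hbit
    obtain ⟨n, hn', hng⟩ := of_decide_eq_true hbit
    have h5 := allB_true h4 hn'
    simp only [sapp_eq] at h5
    rw [hng] at h5
    obtain ⟨h6, h7⟩ := andB_true h5
    refine ⟨h6, fun hg1 => ?_, ?_⟩
    · rcases orB_true h7 with h8 | h8
      · exfalso
        apply hg1
        have := elt_num g
        rw [Nat.eq_of_beq_eq_true h8, elt_zero] at this
        exact this.symm
      · exact h8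
    · rw [← elt_val (mulF_lt (mulF_lt c1 (num_lt g)) c2), elt_mulF (mulF_lt c1 (num_lt g)) c2,
        elt_mulF c1 (num_lt g), elt_num, ce]
  let φ : ↥(K D) →* Matrix (Fin 3) (Fin 3) (ZMod 2) :=
    { toFun := fun g => blk ((elt cn * (g : G) * (elt cn)⁻¹ : G) : Matrix (Fin 4) (Fin 4) (ZMod 2))
      map_one' := by
        show blk ((elt cn * ((1 : ↥(K D)) : G) * (elt cn)⁻¹ : G) : Matrix (Fin 4) (Fin 4) (ZMod 2)) = 1
        rw [Subgroup.coe_one, mul_one, mul_inv_cancel, Units.val_one, blk_one]
      map_mul' := by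
        intro a b
        show blk ((elt cn * ((a * b : ↥(K D)) : G) * (elt cn)⁻¹ : G) : Matrix (Fin 4) (Fin 4) (ZMod 2)) =
          blk ((elt cn * (a : G) * (elt cn)⁻¹ : G) : Matrix (Fin 4) (Fin 4) (ZMod 2)) *
          blk ((elt cn * (b : G) * (elt cn)⁻¹ : G) : Matrix (Fin 4) (Fin 4) (ZMod 2))
        have e1 : elt cn * ((a * b : ↥(K D)) : G) * (elt cn)⁻¹ =
            (elt cn * (a : G) * (elt cn)⁻¹) * (elt cn * (b : G) * (elt cn)⁻¹) := by
          rw [Subgroup.coe_mul]
          group
        rw [e1, Units.val_mul]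
        apply blk_mul
        obtain ⟨sa, -, ea⟩ := key a a.2
        obtain ⟨sb, -, eb⟩ := key b b.2
        rcases shape_spec sa with ⟨s1, s2⟩ | ⟨s1, s2⟩
        · left
          rw [ea]
          exact s2
        · right
          rcases shape_spec sb with ⟨s3, s4⟩ | ⟨s3, s4⟩
          · rw [s1] at s3
            exact absurd s3 (by decide)
          · rw [eb]
            exact s4 }
  have hinj : Function.Injective φ.toHomUnits := by
    rw [injective_iff_map_eq_one]
    intro a ha
    by_contra ha1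
    have h5 : φ a = 1 := by
      have := congrArg Units.val ha
      rwa [MonoidHom.coe_toHomUnits] at this
    have ha1' : (a : G) ≠ 1 := fun h => ha1 (Subtype.ext h)
    obtain ⟨-, ne, ea⟩ := key a a.2
    have h6 : blk ((elt cn * (a : G) * (elt cn)⁻¹ : G) : Matrix (Fin 4) (Fin 4) (ZMod 2)) = 1 := h5
    rw [ea] at h6
    exact blkNe_spec (ne ha1') h6
  have hb : Function.Bijective φ.toHomUnits := by
    rw [Nat.bijective_iff_injective_and_card]
    refine ⟨hinj, ?_⟩
    rw [card_K hg hk hc, hn]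
    exact card_GL3.symm
  exact ⟨MulEquiv.ofBijective φ.toHomUnits hb⟩

end Cfsg.Agent.Helper9.G42
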