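import Mathlib
import Cfsg.Agent.Helper9.G42.All
import Cfsg.Agent.Helper9.G42.DatL
import Cfsg.Agent.Helper9.G42.Iso

set_option autoImplicit false
set_option maxRecDepth 1000000

/-!
The checks that identify class 35 of subgroups.
-/

namespace Cfsg.Agent.Helper9.G42

open Cfsg.Agent.Helper9.J3

theorem chkD_c_35 : chkCard cD35 = true := by decide +kernel

theorem chkL_g_35 : chkGens cL35.gens = true := by decide +kernel

theorem chkL_k_35 : chkK cL35 = true := by decide +kernel

theorem chkL_c_35 : chkCard cL35 = true := by decide +kernel

theorem chkL_o_35 : chkCore cD35 cL35 ksL35 = true := by decide +kernel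

end Cfsg.Agent.Helper9.G42
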