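import Mathlib
import Cfsg.Agent.Helper9.G42.All
import Cfsg.Agent.Helper9.G42.DatL
import Cfsg.Agent.Helper9.G42.Iso

set_option autoImplicit false
set_option maxRecDepth 1000000

/-!
The checks that identify class 67 of subgroups.
-/

namespace Cfsg.Agent.Helper9.G42

open Cfsg.Agent.Helper9.J3

theorem chkD_c_67 : chkCard cD67 = true := by decide +kernel

theorem chkL_g_67 : chkGens cL67.gens = true := by decide +kernel

theorem chkL_k_67 : chkK cL67 = true := by decide +kernel

theorem chkL_c_67 : chkCard cL67 = true := by decide +kernel

theorem chkL_o_67 : chkCore cD67 cL67 ksL67 = true := by decide +kernel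

end Cfsg.Agent.Helper9.G42
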