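import Mathlib
import Cfsg.Agent.Helper9.G42.All
import Cfsg.Agent.Helper9.G42.Rad

set_option autoImplicit false
set_option maxRecDepth 1000000

/-!
The checks of the normal subgroups of prime power order of the classes of subgroups.
-/

namespace Cfsg.Agent.Helper9.G42

open Cfsg.Agent.Helper9.J3

theorem chkR_1 : chkRad cD1 = true := by decide +kernel

theorem chkR_2 : chkRad cD2 = true := by decide +kernel

theorem chkR_3 : chkRad cD3 = true := by decide +kernel

theorem chkR_4 : chkRad cD4 = true := by decide +kernel

theorem chkR_5 : chkRad cD5 = true := by decide +kernel

theorem chkR_6 : chkRad cD6 = true := by decide +kernel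

theorem chkR_7 : chkRad cD7 = true := by decide +kernel

theorem chkR_8 : chkRad cD8 = true := by decide +kernel

theorem chkR_9 : chkRad cD9 = true := by decide +kernel

theorem chkR_10 : chkRad cD10 = true := by decide +kernel

theorem chkR_11 : chkRad cD11 = true := by decide +kernel

theorem chkR_12 : chkRad cD12 = true := by decide +kernel

theorem chkR_13 : chkRad cD13 = true := by decide +kernel

theorem chkR_14 : chkRad cD14 = true := by decide +kernel

theorem chkR_15 : chkRad cD15 = true := by decide +kernel

theorem chkR_16 : chkRad cD16 = true := by decide +kernel

theorem chkR_18 : chkRad cD18 = true := by decide +kernel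

theorem chkR_19 : chkRad cD19 = true := by decide +kernel

theorem chkR_20 : chkRad cD20 = true := by decide +kernel

theorem chkR_21 : chkRad cD21 = true := by decide +kernel

theorem chkR_22 : chkRad cD22 = true := by decide +kernel

theorem chkR_25 : chkRad cD25 = true := by decide +kernel

theorem chkR_26 : chkRad cD26 = true := by decide +kernel

theorem chkR_27 : chkRad cD27 = true := by decide +kernel

theorem chkR_28 : chkRad cD28 = true := by decide +kernel

theorem chkR_29 : chkRad cD29 = true := by decide +kernel

theorem chkR_30 : chkRad cD30 = true := by decide +kernel

theorem chkR_31 : chkRad cD31 = true := by decide +kernel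

theorem chkR_32 : chkRad cD32 = true := by decide +kernel

theorem chkR_34 : chkRad cD34 = true := by decide +kernel

theorem chkR_36 : chkRad cD36 = true := by decide +kernel

theorem chkR_37 : chkRad cD37 = true := by decide +kernel

theorem chkR_38 : chkRad cD38 = true := by decide +kernel

theorem chkR_41 : chkRad cD41 = true := by decide +kernel

theorem chkR_42 : chkRad cD42 = true := by decide +kernel

theorem chkR_43 : chkRad cD43 = true := by decide +kernel

theorem chkR_45 : chkRad cD45 = true := by decide +kernel

theorem chkR_46 : chkRad cD46 = true := by decide +kernel

theorem chkR_47 : chkRad cD47 = true := by decide +kernel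

theorem chkR_48 : chkRad cD48 = true := by decide +kernel

theorem chkR_49 : chkRad cD49 = true := by decide +kernel

theorem chkR_50 : chkRad cD50 = true := by decide +kernel

theorem chkR_51 : chkRad cD51 = true := by decide +kernel

theorem chkR_52 : chkRad cD52 = true := by decide +kernel

theorem chkR_54 : chkRad cD54 = true := by decide +kernel

theorem chkR_55 : chkRad cD55 = true := by decide +kernel

theorem chkR_56 : chkRad cD56 = true := by decide +kernel

theorem chkR_57 : chkRad cD57 = true := by decide +kernel

theorem chkR_58 : chkRad cD58 = true := by decide +kernel

theorem chkR_59 : chkRad cD59 = true := by decide +kernel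

theorem chkR_60 : chkRad cD60 = true := by decide +kernel

theorem chkR_61 : chkRad cD61 = true := by decide +kernel

theorem chkR_62 : chkRad cD62 = true := by decide +kernel

theorem chkR_63 : chkRad cD63 = true := by decide +kernel

theorem chkR_64 : chkRad cD64 = true := by decide +kernel

theorem chkR_65 : chkRad cD65 = true := by decide +kernel

theorem chkR_66 : chkRad cD66 = true := by decide +kernel

theorem chkR_68 : chkRad cD68 = true := by decide +kernel

theorem chkR_69 : chkRad cD69 = true := by decide +kernel

theorem chkR_70 : chkRad cD70 = true := by decide +kernel

theorem chkR_71 : chkRad cD71 = true := by decide +kernel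

theorem chkR_72 : chkRad cD72 = true := by decide +kernel

theorem chkR_73 : chkRad cD73 = true := by decide +kernel

theorem chkR_74 : chkRad cD74 = true := by decide +kernel

theorem chkR_75 : chkRad cD75 = true := by decide +kernel

theorem chkR_76 : chkRad cD76 = true := by decide +kernel

theorem chkR_77 : chkRad cD77 = true := by decide +kernel

theorem chkR_78 : chkRad cD78 = true := by decide +kernel

theorem chkR_79 : chkRad cD79 = true := by decide +kernel

theorem chkR_80 : chkRad cD80 = true := by decide +kernel

theorem chkR_81 : chkRad cD81 = true := by decide +kernel

theorem chkR_82 : chkRad cD82 = true := by decide +kernel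

theorem chkR_83 : chkRad cD83 = true := by decide +kernel

theorem chkR_84 : chkRad cD84 = true := by decide +kernel

theorem chkR_85 : chkRad cD85 = true := by decide +kernel

theorem chkR_86 : chkRad cD86 = true := by decide +kernel

theorem chkR_87 : chkRad cD87 = true := by decide +kernel

theorem chkR_88 : chkRad cD88 = true := by decide +kernel

theorem chkR_89 : chkRad cD89 = true := by decide +kernel

theorem chkR_90 : chkRad cD90 = true := by decide +kernel

theorem chkR_91 : chkRad cD91 = true := by decide +kernel

theorem chkR_92 : chkRad cD92 = true := by decide +kernel

theorem chkR_93 : chkRad cD93 = true := by decide +kernel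

theorem chkR_95 : chkRad cD95 = true := by decide +kernel

theorem chkR_96 : chkRad cD96 = true := by decide +kernel

theorem chkR_97 : chkRad cD97 = true := by decide +kernel

theorem chkR_98 : chkRad cD98 = true := by decide +kernel

theorem chkR_99 : chkRad cD99 = true := by decide +kernel

theorem chkR_100 : chkRad cD100 = true := by decide +kernel

theorem chkR_101 : chkRad cD101 = true := by decide +kernel

theorem chkR_102 : chkRad cD102 = true := by decide +kernel

theorem chkR_103 : chkRad cD103 = true := by decide +kernel

theorem chkR_104 : chkRad cD104 = true := by decide +kernel

theorem chkR_105 : chkRad cD105 = true := by decide +kernel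

theorem chkR_106 : chkRad cD106 = true := by decide +kernel

theorem chkR_107 : chkRad cD107 = true := by decide +kernel

theorem chkR_108 : chkRad cD108 = true := by decide +kernel

theorem chkR_109 : chkRad cD109 = true := by decide +kernel

theorem chkR_110 : chkRad cD110 = true := by decide +kernel

theorem chkR_111 : chkRad cD111 = true := by decide +kernel

theorem chkR_112 : chkRad cD112 = true := by decide +kernel

theorem chkR_113 : chkRad cD113 = true := by decide +kernel

theorem chkR_114 : chkRad cD114 = true := by decide +kernel

theorem chkR_115 : chkRad cD115 = true := by decide +kernel

theorem chkR_116 : chkRad cD116 = true := by decide +kernel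

theorem chkR_117 : chkRad cD117 = true := by decide +kernel

theorem chkR_118 : chkRad cD118 = true := by decide +kernel

theorem chkR_119 : chkRad cD119 = true := by decide +kernel

theorem chkR_120 : chkRad cD120 = true := by decide +kernel

theorem chkR_121 : chkRad cD121 = true := by decide +kernel

theorem chkR_122 : chkRad cD122 = true := by decide +kernel

theorem chkR_123 : chkRad cD123 = true := by decide +kernel

theorem chkR_124 : chkRad cD124 = true := by decide +kernel

theorem chkR_125 : chkRad cD125 = true := by decide +kernel

theorem chkR_126 : chkRad cD126 = true := by decide +kernel

theorem chkR_127 : chkRad cD127 = true := by decide +kernel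

theorem chkR_128 : chkRad cD128 = true := by decide +kernel

theorem chkR_129 : chkRad cD129 = true := by decide +kernel

theorem chkR_130 : chkRad cD130 = true := by decide +kernel

theorem chkR_131 : chkRad cD131 = true := by decide +kernel

theorem chkR_132 : chkRad cD132 = true := by decide +kernel

theorem chkR_133 : chkRad cD133 = true := by decide +kernel

theorem chkR_134 : chkRad cD134 = true := by decide +kernel

theorem chkR_135 : chkRad cD135 = true := by decide +kernel

theorem chkR_136 : chkRad cD136 = true := by decide +kernel

end Cfsg.Agent.Helper9.G42
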