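import Mathlib
import Cfsg.Agent.Helper9.G42.Iso

set_option autoImplicit false

/-!
What is to be proved of each class of subgroups.
-/

namespace Cfsg.Agent.Helper9.G42

open Cfsg.Agent.Helper9.J3

/-- the conclusion. -/
def Concl (A : Type) [Group A] : Prop :=
  (∃ n : ℕ, 5 ≤ n ∧ n ≤ 8 ∧ Nonempty (A ≃* alternatingGroup (Fin n))) ∨
    Nonempty (A ≃* Equiv.Perm (Fin 5)) ∨ Nonempty (A ≃* Equiv.Perm (Fin 6)) ∨
    Nonempty (A ≃* GL (Fin 3) (ZMod 2))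

theorem Concl.of_equiv {A B : Type} [Group A] [Group B] (e : A ≃* B) (h : Concl A) : Concl B := by
  rcases h with ⟨n, h5, h8, ⟨f⟩⟩ | ⟨⟨f⟩⟩ | ⟨⟨f⟩⟩ | ⟨⟨f⟩⟩
  · exact Or.inl ⟨n, h5, h8, ⟨e.symm.trans f⟩⟩
  · exact Or.inr (Or.inl ⟨e.symm.trans f⟩)
  · exact Or.inr (Or.inr (Or.inl ⟨e.symm.trans f⟩))
  · exact Or.inr (Or.inr (Or.inr ⟨e.symm.trans f⟩))

/-- what is to be proved of a class. -/
def Good (D : Cls) : Prop :=
  K D ≠ ⊥ → Cfsg.pCore 2 ↥(K D) = ⊥ → Cfsg.pPrimeCore 2 ↥(K D) = ⊥ → Concl ↥(K D)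

theorem good_of_rad {D : Cls} (hg : chkGens D.gens = true) (hk : chkK D = true) (h : chkRad D = true) :
    Good D := fun _ h1 h2 => by
  rcases rad_spec hg hk h with h3 | h3
  · exact absurd h1 h3
  · exact absurd h2 h3

theorem good_of_nil {D : Cls} (h : D.gens = []) : Good D := fun h0 _ _ => by
  exact absurd (K_eq_bot_of_nil h) h0

theorem good_of_alt {D : Cls} {n : ℕ} (h : Nonempty (↥(K D) ≃* alternatingGroup (Fin n))) (h5 : 5 ≤ n)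
    (h8 : n ≤ 8) : Good D := fun _ _ _ => Or.inl ⟨n, h5, h8, h⟩

theorem good_of_sym5 {D : Cls} (h : Nonempty (↥(K D) ≃* Equiv.Perm (Fin 5))) : Good D :=
  fun _ _ _ => Or.inr (Or.inl h)

theorem good_of_sym6 {D : Cls} (h : Nonempty (↥(K D) ≃* Equiv.Perm (Fin 6))) : Good D :=
  fun _ _ _ => Or.inr (Or.inr (Or.inl h))

theorem good_of_gl3 {D : Cls} (h : Nonempty (↥(K D) ≃* GL (Fin 3) (ZMod 2))) : Good D :=
  fun _ _ _ => Or.inr (Or.inr (Or.inr h))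

end Cfsg.Agent.Helper9.G42
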