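import Mathlib
import Cfsg.Agent.Helper9.G42.ChkAll
import Cfsg.Agent.Helper9.G42.ChkR
import Cfsg.Agent.Helper9.G42.ChkI17
import Cfsg.Agent.Helper9.G42.ChkI23
import Cfsg.Agent.Helper9.G42.ChkI24
import Cfsg.Agent.Helper9.G42.ChkI33
import Cfsg.Agent.Helper9.G42.ChkI35
import Cfsg.Agent.Helper9.G42.ChkI39
import Cfsg.Agent.Helper9.G42.ChkI40
import Cfsg.Agent.Helper9.G42.ChkI44
import Cfsg.Agent.Helper9.G42.ChkI53
import Cfsg.Agent.Helper9.G42.ChkI67
import Cfsg.Agent.Helper9.G42.ChkI94
import Cfsg.Agent.Helper9.G42.Concl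

set_option autoImplicit false

/-!
Every class of subgroups is as wanted.
-/

namespace Cfsg.Agent.Helper9.G42

open Cfsg.Agent.Helper9.J3

theorem good_0 : Good cD0 := good_of_nil rfl

theorem good_1 : Good cD1 := good_of_rad (chkAll_spec chk_1).1 (chkAll_spec chk_1).2.2.1 chkR_1

theorem good_2 : Good cD2 := good_of_rad (chkAll_spec chk_2).1 (chkAll_spec chk_2).2.2.1 chkR_2

theorem good_3 : Good cD3 := good_of_rad (chkAll_spec chk_3).1 (chkAll_spec chk_3).2.2.1 chkR_3

theorem good_4 : Good cD4 := good_of_rad (chkAll_spec chk_4).1 (chkAll_spec chk_4).2.2.1 chkR_4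

theorem good_5 : Good cD5 := good_of_rad (chkAll_spec chk_5).1 (chkAll_spec chk_5).2.2.1 chkR_5

theorem good_6 : Good cD6 := good_of_rad (chkAll_spec chk_6).1 (chkAll_spec chk_6).2.2.1 chkR_6

theorem good_7 : Good cD7 := good_of_rad (chkAll_spec chk_7).1 (chkAll_spec chk_7).2.2.1 chkR_7

theorem good_8 : Good cD8 := good_of_rad (chkAll_spec chk_8).1 (chkAll_spec chk_8).2.2.1 chkR_8

theorem good_9 : Good cD9 := good_of_rad (chkAll_spec chk_9).1 (chkAll_spec chk_9).2.2.1 chkR_9

theorem good_10 : Good cD10 := good_of_rad (chkAll_spec chk_10).1 (chkAll_spec chk_10).2.2.1 chkR_10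

theorem good_11 : Good cD11 := good_of_rad (chkAll_spec chk_11).1 (chkAll_spec chk_11).2.2.1 chkR_11

theorem good_12 : Good cD12 := good_of_rad (chkAll_spec chk_12).1 (chkAll_spec chk_12).2.2.1 chkR_12

theorem good_13 : Good cD13 := good_of_rad (chkAll_spec chk_13).1 (chkAll_spec chk_13).2.2.1 chkR_13

theorem good_14 : Good cD14 := good_of_rad (chkAll_spec chk_14).1 (chkAll_spec chk_14).2.2.1 chkR_14

theorem good_15 : Good cD15 := good_of_rad (chkAll_spec chk_15).1 (chkAll_spec chk_15).2.2.1 chkR_15

theorem good_16 : Good cD16 := good_of_rad (chkAll_spec chk_16).1 (chkAll_spec chk_16).2.2.1 chkR_16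

theorem good_17 : Good cD17 :=
  good_of_alt (alt_iso (chkAll_spec chk_17).1 (chkAll_spec chk_17).2.2.1 chkD_c_17 chkL_g_17 chkL_k_17 chkL_c_17 chkL_o_17 8 (by decide) (by decide) (by decide)) (by norm_num) (by norm_num)

theorem good_18 : Good cD18 := good_of_rad (chkAll_spec chk_18).1 (chkAll_spec chk_18).2.2.1 chkR_18

theorem good_19 : Good cD19 := good_of_rad (chkAll_spec chk_19).1 (chkAll_spec chk_19).2.2.1 chkR_19

theorem good_20 : Good cD20 := good_of_rad (chkAll_spec chk_20).1 (chkAll_spec chk_20).2.2.1 chkR_20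

theorem good_21 : Good cD21 := good_of_rad (chkAll_spec chk_21).1 (chkAll_spec chk_21).2.2.1 chkR_21

theorem good_22 : Good cD22 := good_of_rad (chkAll_spec chk_22).1 (chkAll_spec chk_22).2.2.1 chkR_22

theorem good_23 : Good cD23 := good_of_gl3 (blk_iso (chkAll_spec chk_23).1 (chkAll_spec chk_23).2.2.1 chkD_c_23 rfl chkB_23)

theorem good_24 : Good cD24 :=
  good_of_alt (alt_iso (chkAll_spec chk_24).1 (chkAll_spec chk_24).2.2.1 chkD_c_24 chkL_g_24 chkL_k_24 chkL_c_24 chkL_o_24 5 (by decide) (by decide) (by decide)) (by norm_num) (by norm_num)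

theorem good_25 : Good cD25 := good_of_rad (chkAll_spec chk_25).1 (chkAll_spec chk_25).2.2.1 chkR_25

theorem good_26 : Good cD26 := good_of_rad (chkAll_spec chk_26).1 (chkAll_spec chk_26).2.2.1 chkR_26

theorem good_27 : Good cD27 := good_of_rad (chkAll_spec chk_27).1 (chkAll_spec chk_27).2.2.1 chkR_27

theorem good_28 : Good cD28 := good_of_rad (chkAll_spec chk_28).1 (chkAll_spec chk_28).2.2.1 chkR_28

theorem good_29 : Good cD29 := good_of_rad (chkAll_spec chk_29).1 (chkAll_spec chk_29).2.2.1 chkR_29

theorem good_30 : Good cD30 := good_of_rad (chkAll_spec chk_30).1 (chkAll_spec chk_30).2.2.1 chkR_30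

theorem good_31 : Good cD31 := good_of_rad (chkAll_spec chk_31).1 (chkAll_spec chk_31).2.2.1 chkR_31

theorem good_32 : Good cD32 := good_of_rad (chkAll_spec chk_32).1 (chkAll_spec chk_32).2.2.1 chkR_32

theorem good_33 : Good cD33 :=
  good_of_alt (alt_iso (chkAll_spec chk_33).1 (chkAll_spec chk_33).2.2.1 chkD_c_33 chkL_g_33 chkL_k_33 chkL_c_33 chkL_o_33 7 (by decide) (by decide) (by decide)) (by norm_num) (by norm_num)

theorem good_34 : Good cD34 := good_of_rad (chkAll_spec chk_34).1 (chkAll_spec chk_34).2.2.1 chkR_34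

theorem good_35 : Good cD35 :=
  good_of_alt (alt_iso (chkAll_spec chk_35).1 (chkAll_spec chk_35).2.2.1 chkD_c_35 chkL_g_35 chkL_k_35 chkL_c_35 chkL_o_35 6 (by decide) (by decide) (by decide)) (by norm_num) (by norm_num)

theorem good_36 : Good cD36 := good_of_rad (chkAll_spec chk_36).1 (chkAll_spec chk_36).2.2.1 chkR_36

theorem good_37 : Good cD37 := good_of_rad (chkAll_spec chk_37).1 (chkAll_spec chk_37).2.2.1 chkR_37

theorem good_38 : Good cD38 := good_of_rad (chkAll_spec chk_38).1 (chkAll_spec chk_38).2.2.1 chkR_38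

theorem good_39 : Good cD39 := good_of_sym5 (sym_iso (chkAll_spec chk_39).1 (chkAll_spec chk_39).2.2.1 chkD_c_39 chkL_g_39 chkL_k_39 chkL_c_39 chkL_o_39 5 (by decide) (by decide) (by decide))

theorem good_40 : Good cD40 := good_of_sym6 (sym_iso (chkAll_spec chk_40).1 (chkAll_spec chk_40).2.2.1 chkD_c_40 chkL_g_40 chkL_k_40 chkL_c_40 chkL_o_40 6 (by decide) (by decide) (by decide))

theorem good_41 : Good cD41 := good_of_rad (chkAll_spec chk_41).1 (chkAll_spec chk_41).2.2.1 chkR_41

theorem good_42 : Good cD42 := good_of_rad (chkAll_spec chk_42).1 (chkAll_spec chk_42).2.2.1 chkR_42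

theorem good_43 : Good cD43 := good_of_rad (chkAll_spec chk_43).1 (chkAll_spec chk_43).2.2.1 chkR_43

theorem good_44 : Good cD44 := good_of_sym5 (sym_iso (chkAll_spec chk_44).1 (chkAll_spec chk_44).2.2.1 chkD_c_44 chkL_g_44 chkL_k_44 chkL_c_44 chkL_o_44 5 (by decide) (by decide) (by decide))

theorem good_45 : Good cD45 := good_of_rad (chkAll_spec chk_45).1 (chkAll_spec chk_45).2.2.1 chkR_45

theorem good_46 : Good cD46 := good_of_rad (chkAll_spec chk_46).1 (chkAll_spec chk_46).2.2.1 chkR_46

theorem good_47 : Good cD47 := good_of_rad (chkAll_spec chk_47).1 (chkAll_spec chk_47).2.2.1 chkR_47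

theorem good_48 : Good cD48 := good_of_rad (chkAll_spec chk_48).1 (chkAll_spec chk_48).2.2.1 chkR_48

theorem good_49 : Good cD49 := good_of_rad (chkAll_spec chk_49).1 (chkAll_spec chk_49).2.2.1 chkR_49

theorem good_50 : Good cD50 := good_of_rad (chkAll_spec chk_50).1 (chkAll_spec chk_50).2.2.1 chkR_50

theorem good_51 : Good cD51 := good_of_rad (chkAll_spec chk_51).1 (chkAll_spec chk_51).2.2.1 chkR_51

theorem good_52 : Good cD52 := good_of_rad (chkAll_spec chk_52).1 (chkAll_spec chk_52).2.2.1 chkR_52

theorem good_53 : Good cD53 := good_of_gl3 (blk_iso (chkAll_spec chk_53).1 (chkAll_spec chk_53).2.2.1 chkD_c_53 rfl chkB_53)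

theorem good_54 : Good cD54 := good_of_rad (chkAll_spec chk_54).1 (chkAll_spec chk_54).2.2.1 chkR_54

theorem good_55 : Good cD55 := good_of_rad (chkAll_spec chk_55).1 (chkAll_spec chk_55).2.2.1 chkR_55

theorem good_56 : Good cD56 := good_of_rad (chkAll_spec chk_56).1 (chkAll_spec chk_56).2.2.1 chkR_56

theorem good_57 : Good cD57 := good_of_rad (chkAll_spec chk_57).1 (chkAll_spec chk_57).2.2.1 chkR_57

theorem good_58 : Good cD58 := good_of_rad (chkAll_spec chk_58).1 (chkAll_spec chk_58).2.2.1 chkR_58

theorem good_59 : Good cD59 := good_of_rad (chkAll_spec chk_59).1 (chkAll_spec chk_59).2.2.1 chkR_59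

theorem good_60 : Good cD60 := good_of_rad (chkAll_spec chk_60).1 (chkAll_spec chk_60).2.2.1 chkR_60

theorem good_61 : Good cD61 := good_of_rad (chkAll_spec chk_61).1 (chkAll_spec chk_61).2.2.1 chkR_61

theorem good_62 : Good cD62 := good_of_rad (chkAll_spec chk_62).1 (chkAll_spec chk_62).2.2.1 chkR_62

theorem good_63 : Good cD63 := good_of_rad (chkAll_spec chk_63).1 (chkAll_spec chk_63).2.2.1 chkR_63

theorem good_64 : Good cD64 := good_of_rad (chkAll_spec chk_64).1 (chkAll_spec chk_64).2.2.1 chkR_64

theorem good_65 : Good cD65 := good_of_rad (chkAll_spec chk_65).1 (chkAll_spec chk_65).2.2.1 chkR_65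

theorem good_66 : Good cD66 := good_of_rad (chkAll_spec chk_66).1 (chkAll_spec chk_66).2.2.1 chkR_66

theorem good_67 : Good cD67 :=
  good_of_alt (alt_iso (chkAll_spec chk_67).1 (chkAll_spec chk_67).2.2.1 chkD_c_67 chkL_g_67 chkL_k_67 chkL_c_67 chkL_o_67 5 (by decide) (by decide) (by decide)) (by norm_num) (by norm_num)

theorem good_68 : Good cD68 := good_of_rad (chkAll_spec chk_68).1 (chkAll_spec chk_68).2.2.1 chkR_68

theorem good_69 : Good cD69 := good_of_rad (chkAll_spec chk_69).1 (chkAll_spec chk_69).2.2.1 chkR_69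

theorem good_70 : Good cD70 := good_of_rad (chkAll_spec chk_70).1 (chkAll_spec chk_70).2.2.1 chkR_70

theorem good_71 : Good cD71 := good_of_rad (chkAll_spec chk_71).1 (chkAll_spec chk_71).2.2.1 chkR_71

theorem good_72 : Good cD72 := good_of_rad (chkAll_spec chk_72).1 (chkAll_spec chk_72).2.2.1 chkR_72

theorem good_73 : Good cD73 := good_of_rad (chkAll_spec chk_73).1 (chkAll_spec chk_73).2.2.1 chkR_73

theorem good_74 : Good cD74 := good_of_rad (chkAll_spec chk_74).1 (chkAll_spec chk_74).2.2.1 chkR_74

theorem good_75 : Good cD75 := good_of_rad (chkAll_spec chk_75).1 (chkAll_spec chk_75).2.2.1 chkR_75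

theorem good_76 : Good cD76 := good_of_rad (chkAll_spec chk_76).1 (chkAll_spec chk_76).2.2.1 chkR_76

theorem good_77 : Good cD77 := good_of_rad (chkAll_spec chk_77).1 (chkAll_spec chk_77).2.2.1 chkR_77

theorem good_78 : Good cD78 := good_of_rad (chkAll_spec chk_78).1 (chkAll_spec chk_78).2.2.1 chkR_78

theorem good_79 : Good cD79 := good_of_rad (chkAll_spec chk_79).1 (chkAll_spec chk_79).2.2.1 chkR_79

theorem good_80 : Good cD80 := good_of_rad (chkAll_spec chk_80).1 (chkAll_spec chk_80).2.2.1 chkR_80

theorem good_81 : Good cD81 := good_of_rad (chkAll_spec chk_81).1 (chkAll_spec chk_81).2.2.1 chkR_81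

theorem good_82 : Good cD82 := good_of_rad (chkAll_spec chk_82).1 (chkAll_spec chk_82).2.2.1 chkR_82

theorem good_83 : Good cD83 := good_of_rad (chkAll_spec chk_83).1 (chkAll_spec chk_83).2.2.1 chkR_83

theorem good_84 : Good cD84 := good_of_rad (chkAll_spec chk_84).1 (chkAll_spec chk_84).2.2.1 chkR_84

theorem good_85 : Good cD85 := good_of_rad (chkAll_spec chk_85).1 (chkAll_spec chk_85).2.2.1 chkR_85

theorem good_86 : Good cD86 := good_of_rad (chkAll_spec chk_86).1 (chkAll_spec chk_86).2.2.1 chkR_86

theorem good_87 : Good cD87 := good_of_rad (chkAll_spec chk_87).1 (chkAll_spec chk_87).2.2.1 chkR_87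

theorem good_88 : Good cD88 := good_of_rad (chkAll_spec chk_88).1 (chkAll_spec chk_88).2.2.1 chkR_88

theorem good_89 : Good cD89 := good_of_rad (chkAll_spec chk_89).1 (chkAll_spec chk_89).2.2.1 chkR_89

theorem good_90 : Good cD90 := good_of_rad (chkAll_spec chk_90).1 (chkAll_spec chk_90).2.2.1 chkR_90

theorem good_91 : Good cD91 := good_of_rad (chkAll_spec chk_91).1 (chkAll_spec chk_91).2.2.1 chkR_91

theorem good_92 : Good cD92 := good_of_rad (chkAll_spec chk_92).1 (chkAll_spec chk_92).2.2.1 chkR_92

theorem good_93 : Good cD93 := good_of_rad (chkAll_spec chk_93).1 (chkAll_spec chk_93).2.2.1 chkR_93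

theorem good_94 : Good cD94 := good_of_gl3 (blk_iso (chkAll_spec chk_94).1 (chkAll_spec chk_94).2.2.1 chkD_c_94 rfl chkB_94)

theorem good_95 : Good cD95 := good_of_rad (chkAll_spec chk_95).1 (chkAll_spec chk_95).2.2.1 chkR_95

theorem good_96 : Good cD96 := good_of_rad (chkAll_spec chk_96).1 (chkAll_spec chk_96).2.2.1 chkR_96

theorem good_97 : Good cD97 := good_of_rad (chkAll_spec chk_97).1 (chkAll_spec chk_97).2.2.1 chkR_97

theorem good_98 : Good cD98 := good_of_rad (chkAll_spec chk_98).1 (chkAll_spec chk_98).2.2.1 chkR_98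

theorem good_99 : Good cD99 := good_of_rad (chkAll_spec chk_99).1 (chkAll_spec chk_99).2.2.1 chkR_99

theorem good_100 : Good cD100 := good_of_rad (chkAll_spec chk_100).1 (chkAll_spec chk_100).2.2.1 chkR_100

theorem good_101 : Good cD101 := good_of_rad (chkAll_spec chk_101).1 (chkAll_spec chk_101).2.2.1 chkR_101

theorem good_102 : Good cD102 := good_of_rad (chkAll_spec chk_102).1 (chkAll_spec chk_102).2.2.1 chkR_102

theorem good_103 : Good cD103 := good_of_rad (chkAll_spec chk_103).1 (chkAll_spec chk_103).2.2.1 chkR_103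

theorem good_104 : Good cD104 := good_of_rad (chkAll_spec chk_104).1 (chkAll_spec chk_104).2.2.1 chkR_104

theorem good_105 : Good cD105 := good_of_rad (chkAll_spec chk_105).1 (chkAll_spec chk_105).2.2.1 chkR_105

theorem good_106 : Good cD106 := good_of_rad (chkAll_spec chk_106).1 (chkAll_spec chk_106).2.2.1 chkR_106

theorem good_107 : Good cD107 := good_of_rad (chkAll_spec chk_107).1 (chkAll_spec chk_107).2.2.1 chkR_107

theorem good_108 : Good cD108 := good_of_rad (chkAll_spec chk_108).1 (chkAll_spec chk_108).2.2.1 chkR_108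

theorem good_109 : Good cD109 := good_of_rad (chkAll_spec chk_109).1 (chkAll_spec chk_109).2.2.1 chkR_109

theorem good_110 : Good cD110 := good_of_rad (chkAll_spec chk_110).1 (chkAll_spec chk_110).2.2.1 chkR_110

theorem good_111 : Good cD111 := good_of_rad (chkAll_spec chk_111).1 (chkAll_spec chk_111).2.2.1 chkR_111

theorem good_112 : Good cD112 := good_of_rad (chkAll_spec chk_112).1 (chkAll_spec chk_112).2.2.1 chkR_112

theorem good_113 : Good cD113 := good_of_rad (chkAll_spec chk_113).1 (chkAll_spec chk_113).2.2.1 chkR_113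

theorem good_114 : Good cD114 := good_of_rad (chkAll_spec chk_114).1 (chkAll_spec chk_114).2.2.1 chkR_114

theorem good_115 : Good cD115 := good_of_rad (chkAll_spec chk_115).1 (chkAll_spec chk_115).2.2.1 chkR_115

theorem good_116 : Good cD116 := good_of_rad (chkAll_spec chk_116).1 (chkAll_spec chk_116).2.2.1 chkR_116

theorem good_117 : Good cD117 := good_of_rad (chkAll_spec chk_117).1 (chkAll_spec chk_117).2.2.1 chkR_117

theorem good_118 : Good cD118 := good_of_rad (chkAll_spec chk_118).1 (chkAll_spec chk_118).2.2.1 chkR_118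

theorem good_119 : Good cD119 := good_of_rad (chkAll_spec chk_119).1 (chkAll_spec chk_119).2.2.1 chkR_119

theorem good_120 : Good cD120 := good_of_rad (chkAll_spec chk_120).1 (chkAll_spec chk_120).2.2.1 chkR_120

theorem good_121 : Good cD121 := good_of_rad (chkAll_spec chk_121).1 (chkAll_spec chk_121).2.2.1 chkR_121

theorem good_122 : Good cD122 := good_of_rad (chkAll_spec chk_122).1 (chkAll_spec chk_122).2.2.1 chkR_122

theorem good_123 : Good cD123 := good_of_rad (chkAll_spec chk_123).1 (chkAll_spec chk_123).2.2.1 chkR_123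

theorem good_124 : Good cD124 := good_of_rad (chkAll_spec chk_124).1 (chkAll_spec chk_124).2.2.1 chkR_124

theorem good_125 : Good cD125 := good_of_rad (chkAll_spec chk_125).1 (chkAll_spec chk_125).2.2.1 chkR_125

theorem good_126 : Good cD126 := good_of_rad (chkAll_spec chk_126).1 (chkAll_spec chk_126).2.2.1 chkR_126

theorem good_127 : Good cD127 := good_of_rad (chkAll_spec chk_127).1 (chkAll_spec chk_127).2.2.1 chkR_127

theorem good_128 : Good cD128 := good_of_rad (chkAll_spec chk_128).1 (chkAll_spec chk_128).2.2.1 chkR_128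

theorem good_129 : Good cD129 := good_of_rad (chkAll_spec chk_129).1 (chkAll_spec chk_129).2.2.1 chkR_129

theorem good_130 : Good cD130 := good_of_rad (chkAll_spec chk_130).1 (chkAll_spec chk_130).2.2.1 chkR_130

theorem good_131 : Good cD131 := good_of_rad (chkAll_spec chk_131).1 (chkAll_spec chk_131).2.2.1 chkR_131

theorem good_132 : Good cD132 := good_of_rad (chkAll_spec chk_132).1 (chkAll_spec chk_132).2.2.1 chkR_132

theorem good_133 : Good cD133 := good_of_rad (chkAll_spec chk_133).1 (chkAll_spec chk_133).2.2.1 chkR_133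

theorem good_134 : Good cD134 := good_of_rad (chkAll_spec chk_134).1 (chkAll_spec chk_134).2.2.1 chkR_134

theorem good_135 : Good cD135 := good_of_rad (chkAll_spec chk_135).1 (chkAll_spec chk_135).2.2.1 chkR_135

theorem good_136 : Good cD136 := good_of_rad (chkAll_spec chk_136).1 (chkAll_spec chk_136).2.2.1 chkR_136

theorem good_all : ∀ j, j < 137 → Good (cls j) := by
  intro j hj
  interval_cases j
  · exact good_0
  · exact good_1
  · exact good_2
  · exact good_3
  · exact good_4
  · exact good_5
  · exact good_6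
  · exact good_7
  · exact good_8
  · exact good_9
  · exact good_10
  · exact good_11
  · exact good_12
  · exact good_13
  · exact good_14
  · exact good_15
  · exact good_16
  · exact good_17
  · exact good_18
  · exact good_19
  · exact good_20
  · exact good_21
  · exact good_22
  · exact good_23
  · exact good_24
  · exact good_25
  · exact good_26
  · exact good_27
  · exact good_28
  · exact good_29
  · exact good_30
  · exact good_31
  · exact good_32
  · exact good_33
  · exact good_34
  · exact good_35
  · exact good_36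
  · exact good_37
  · exact good_38
  · exact good_39
  · exact good_40
  · exact good_41
  · exact good_42
  · exact good_43
  · exact good_44
  · exact good_45
  · exact good_46
  · exact good_47
  · exact good_48
  · exact good_49
  · exact good_50
  · exact good_51
  · exact good_52
  · exact good_53
  · exact good_54
  · exact good_55
  · exact good_56
  · exact good_57
  · exact good_58
  · exact good_59
  · exact good_60
  · exact good_61
  · exact good_62
  · exact good_63
  · exact good_64
  · exact good_65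
  · exact good_66
  · exact good_67
  · exact good_68
  · exact good_69
  · exact good_70
  · exact good_71
  · exact good_72
  · exact good_73
  · exact good_74
  · exact good_75
  · exact good_76
  · exact good_77
  · exact good_78
  · exact good_79
  · exact good_80
  · exact good_81
  · exact good_82
  · exact good_83
  · exact good_84
  · exact good_85
  · exact good_86
  · exact good_87
  · exact good_88
  · exact good_89
  · exact good_90
  · exact good_91
  · exact good_92
  · exact good_93
  · exact good_94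
  · exact good_95
  · exact good_96
  · exact good_97
  · exact good_98
  · exact good_99
  · exact good_100
  · exact good_101
  · exact good_102
  · exact good_103
  · exact good_104
  · exact good_105
  · exact good_106
  · exact good_107
  · exact good_108
  · exact good_109
  · exact good_110
  · exact good_111
  · exact good_112
  · exact good_113
  · exact good_114
  · exact good_115
  · exact good_116
  · exact good_117
  · exact good_118
  · exact good_119
  · exact good_120
  · exact good_121
  · exact good_122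
  · exact good_123
  · exact good_124
  · exact good_125
  · exact good_126
  · exact good_127
  · exact good_128
  · exact good_129
  · exact good_130
  · exact good_131
  · exact good_132
  · exact good_133
  · exact good_134
  · exact good_135
  · exact good_136

/-- a nontrivial subgroup with trivial cores is one of the wanted groups. -/
theorem main (H : Subgroup G) (hH : H ≠ ⊥) (hO : Cfsg.pPrimeCore 2 ↥H = ⊥) (hO2 : Cfsg.pCore 2 ↥H = ⊥) :
    Concl ↥H := by
  obtain ⟨j, hj, y, rfl⟩ := classify chk_all rfl H
  have e : ↥(K (cls j)) ≃* ↥((K (cls j)).map (MulAut.conj y).toMonoidHom) :=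
    (K (cls j)).equivMapOfInjective _ (MulAut.conj y).injective
  apply Concl.of_equiv e
  apply good_all j hj
  · intro h
    apply hH
    rw [h, Subgroup.map_bot]
  · exact pCore_bot_of_equiv e.symm hO2
  · exact pPrimeCore_bot_of_equiv e.symm hO

end Cfsg.Agent.Helper9.G42
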